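import Cfsg.Agent.Chev34.Rational
import Cfsg.Agent.Chev54.Separ

/-!
An irrational unipotent element of an overgroup of the rational points climbs, by commutators with rational root
elements, to an irrational element of the highest root subgroup.
-/

set_option autoImplicit false

namespace Cfsg.Agent.Chev34

open Cfsg.Lie Cfsg.Agent.ChevCore Cfsg.Agent.Chev54

variable {D : ChevalleyDatum} {F : Type*} [Field F]

/-- the sum of the coefficients of the commutator terms of `s`, `r` at the root `c` -/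
def commCoef (D : ChevalleyDatum) (s r c : ℕ) : ℤ :=
  (((D.commTerms s r).filter fun e => e.1 = c).map fun e => e.2.1).sum

/-- the rational elements of `H` include all those in `XS (htGe m)` -/
def Clean (φ : F →+* F) (H : Subgroup (GL D.Idx F)) (m : ℤ) : Prop :=
  ∀ v ∈ H, v ∈ XS D F (htGe D m) → gmap D φ v = v

/-- a subgroup of the group containing the rational points -/
structure Over (D : ChevalleyDatum) (φ : F →+* F) (H : Subgroup (GL D.Idx F)) : Prop where
  le : H ≤ D.group F
  rat : ∀ g ∈ D.group F, gmap D φ g = g → g ∈ H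

variable (hU : UGood D)
include hU

theorem vec_gmap (φ : F →+* F) {m : ℤ} {x : GL D.Idx F} {d : ℕ → F} (h : Vec m x d) :
    Vec m (gmap D φ x) (fun r => φ (d r)) := by
  have hC := hU.toCommGood
  refine ⟨fun r hr => h.1 r fun e => hr (by show φ (d r) = 0; rw [e, map_zero]), ?_⟩
  have e : gmap D φ (prodL D F (posL (D := D)) d) = prodL D F (posL (D := D)) (fun r => φ (d r)) := by
    simp only [prodL, map_list_prod, List.map_map]
    exact congrArg List.prod (List.map_congr_left fun r _ => gmap_xg φ hC r (d r))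
  rw [← e, ← map_inv, ← map_mul]
  exact gmap_XS φ hC h.2

/-- the commutator with a root element, read in the layer above -/
theorem comm_lin {s r c : ℕ} (hs : s < D.nroots) (hs1 : 1 ≤ ht D s) (hr : r < D.nroots) {m : ℤ}
    (hm : 1 ≤ m) (hrm : ht D r = m) (hsr : r ≠ s) (hc : ∃ e ∈ D.commTerms s r, e.1 = c)
    (hcm : ht D c = m + ht D s) {v : GL D.Idx F} {d : ℕ → F} (hv : Vec m v d) :
    ∃ d', Vec (m + ht D s) (xg D F s 1 * v * (xg D F s 1)⁻¹ * v⁻¹) d' ∧
      d' c = (commCoef D s r c : F) * d r := by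
  classical
  have hC := hU.toCommGood
  have hG := hC.toGood
  set x := xg D F s (1 : F)
  set m' := m + ht D s
  have hm' : 1 ≤ m' := by omega
  have hpos : ∀ a, a < D.nroots → m ≤ ht D a → ∀ e ∈ D.commTerms s a,
      e.1 < D.nroots ∧ m' ≤ ht D e.1 ∧ (e.1 = c → a = r ∧ e.2.2.1 = 1 ∧ e.2.2.2 = 1) := by
    intro a ha ham e he
    rw [← commW_std (D := D) s a] at he
    obtain ⟨h0, h1, h2, h3⟩ := hG.commTerms_coef hs ha he
    have hh := hG.commTerms_ht hs ha he
    have h1' : (1 : ℤ) ≤ e.2.2.1 := by exact_mod_cast h1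
    have h2' : (1 : ℤ) ≤ e.2.2.2 := by exact_mod_cast h2
    refine ⟨h0, by rw [hh]; nlinarith, fun hec => ?_⟩
    have he' : ht D e.1 = m' := by rw [hec, hcm]
    rw [hh] at he'
    have hi : (e.2.2.1 : ℤ) = 1 := by
      by_contra hne
      have : (2 : ℤ) ≤ e.2.2.1 := by omega
      nlinarith
    rw [hi, one_mul] at he'
    have hj : (e.2.2.2 : ℤ) = 1 := by
      by_contra hne
      have : (2 : ℤ) ≤ e.2.2.2 := by omega
      nlinarith
    obtain ⟨f, hf, hfc⟩ := hc
    rw [← commW_std (D := D) s r] at hf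
    obtain ⟨-, f1, f2, f3⟩ := hG.commTerms_coef hs hr hf
    have fh := hG.commTerms_ht hs hr hf
    rw [hfc, hcm, hrm] at fh
    have f1' : (1 : ℤ) ≤ f.2.2.1 := by exact_mod_cast f1
    have f2' : (1 : ℤ) ≤ f.2.2.2 := by exact_mod_cast f2
    have fi : (f.2.2.1 : ℤ) = 1 := by
      by_contra hne
      have : (2 : ℤ) ≤ f.2.2.1 := by omega
      nlinarith
    have fj : (f.2.2.2 : ℤ) = 1 := by
      by_contra hne
      have : (2 : ℤ) ≤ f.2.2.2 := by omega
      nlinarith
    refine ⟨hU.root_ext ha hr fun j hj' => ?_, by exact_mod_cast hi, by exact_mod_cast hj⟩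
    have e1 := h3 j hj'
    have e2 := f3 j hj'
    rw [hec, hi, hj] at e1
    rw [hfc, fi, fj] at e2
    linarith
  have gen : ∀ a, a < D.nroots → m ≤ ht D a → ∀ t : F, ∃ d₀ d', Vec m (xg D F a t) d₀ ∧
      Vec m' (x * xg D F a t * x⁻¹ * (xg D F a t)⁻¹) d' ∧ d' c = (commCoef D s r c : F) * d₀ r := by
    intro a ha ham t
    obtain ⟨d₀, hd₀, hd₀r⟩ : ∃ d₀, Vec m (xg D F a t) d₀ ∧ d₀ r = if a = r then t else 0 := by
      by_cases h : ht D a = m
      · refine ⟨_, h ▸ vec_xg hU ha (by omega) t, ?_⟩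
        by_cases e : a = r
        · subst e; simp
        · simp [e, Pi.single_eq_of_ne (Ne.symm e)]
      · refine ⟨_, vec_of_next hU (xg_mem_XS ha (show m + 1 ≤ ht D a by omega) t), ?_⟩
        rw [if_neg fun e : a = r => h (by rw [e, hrm])]
    by_cases has : a = s
    · subst has
      refine ⟨d₀, fun _ => 0, hd₀, ?_, ?_⟩
      · refine vec_of_next hU ?_
        rw [show x * xg D F a t * x⁻¹ * (xg D F a t)⁻¹ = 1 by
          simp only [x]; rw [← hG.xg_add, hG.xg_inv, ← hG.xg_add, hG.xg_inv, ← hG.xg_add,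
            show (1 : F) + t + -1 + -t = 0 by ring, hG.xg_zero]]
        exact one_mem _
      · rw [hd₀r, if_neg (Ne.symm hsr), mul_zero]
    have hw : ((D.commTerms s a).map fun e => xg D F e.1 (termV (-1 : F) (-t) e)).prod =
        (x * xg D F a t * x⁻¹ * (xg D F a t)⁻¹)⁻¹ := by
      rw [word_eq hU hs ha hs1 (by omega) has (-1 : F) (-t)]
      simp only [x]
      rw [← hG.xg_inv s 1, ← hG.xg_inv a t]
      group
    obtain ⟨d', hd', hdc⟩ := vec_list hU hm' hcm (termV (-1 : F) (-t)) (D.commTerms s a) fun e he =>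
      ⟨(hpos a ha ham e he).1, Or.inl (hpos a ha ham e he).2.1⟩
    rw [hw] at hd'
    refine ⟨d₀, -d', hd₀, by simpa using hd'.inv hU hm', ?_⟩
    rw [Pi.neg_apply, hdc, hd₀r]
    by_cases e : a = r
    · subst e
      rw [if_pos rfl, commCoef]
      have key : ∀ L : List (ℕ × ℤ × ℕ × ℕ), (∀ e ∈ L, e.2.2.1 = 1 ∧ e.2.2.2 = 1) →
          -(L.map (termV (-1 : F) (-t))).sum = ((L.map fun e => e.2.1).sum : ℤ) * t := by
        intro L
        induction L with
        | nil => simp
        | cons e L ih =>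
          intro hL
          obtain ⟨h1, h2⟩ := hL e (List.mem_cons_self ..)
          rw [List.map_cons, List.map_cons, List.sum_cons, List.sum_cons, neg_add,
            ih fun e' he' => hL e' (List.mem_cons_of_mem _ he'), termV, h1, h2]
          push_cast
          ring
      refine key _ fun e he => ?_
      obtain ⟨he1, he2⟩ := List.mem_filter.1 he
      exact ((hpos a ha ham e he1).2.2 (by simpa using he2)).2
    · rw [if_neg e, mul_zero, neg_eq_zero]
      rw [List.filter_eq_nil_iff.2 fun e' he' => by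
        simpa using fun h => e ((hpos a ha ham e' he').2.2 h).1]
      simp
  have hx : x ∈ XS D F (htGe D 1) := xg_mem_XS hs hs1 _
  have hle : XS D F (htGe D m) ≤ XS D F (htGe D 1) :=
    XS_mono fun r (h : m ≤ ht D r) => show 1 ≤ ht D r by omega
  suffices H : ∀ w ∈ XS D F (htGe D m), ∃ d₀ d', Vec m w d₀ ∧ Vec m' (x * w * x⁻¹ * w⁻¹) d' ∧
      d' c = (commCoef D s r c : F) * d₀ r by
    obtain ⟨d₀, d', h0, h1, h2⟩ := H v (hv.mem hU)
    exact ⟨d', h1, by rw [h2, h0.unique hU hm hv]⟩
  intro w hw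
  induction hw using Subgroup.closure_induction with
  | mem y hy =>
    obtain ⟨a, t, ha, ham, rfl⟩ := hy
    exact gen a ha ham t
  | one =>
    exact ⟨_, fun _ => 0, vec_of_next hU (one_mem _), vec_of_next hU (by simp), by simp⟩
  | mul a b ha hb iha ihb =>
    obtain ⟨da, da', ha0, ha1, ha2⟩ := iha
    obtain ⟨db, db', hb0, hb1, hb2⟩ := ihb
    refine ⟨da + db, da' + db', ha0.mul hU hm hb0, ?_, by rw [Pi.add_apply, Pi.add_apply, ha2, hb2]; ring⟩
    rw [show x * (a * b) * x⁻¹ * (a * b)⁻¹ = (x * a * x⁻¹ * a⁻¹) * (a * (x * b * x⁻¹ * b⁻¹) * a⁻¹)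
      by group]
    exact ha1.mul hU hm' (hb1.conj hU hm' (hle ha))
  | inv a ha iha =>
    obtain ⟨da, da', ha0, ha1, ha2⟩ := iha
    refine ⟨-da, -da', ha0.inv hU hm, ?_, by rw [Pi.neg_apply, Pi.neg_apply, ha2]; ring⟩
    rw [show x * a⁻¹ * x⁻¹ * a⁻¹⁻¹ = a⁻¹ * (x * a * x⁻¹ * a⁻¹)⁻¹ * a⁻¹⁻¹ by group]
    exact (ha1.inv hU hm').conj hU hm' (inv_mem (hle ha))

variable {φ : F →+* F} {H : Subgroup (GL D.Idx F)}

omit hU in
theorem Over.xg_one (hC : CommGood D) (hH : Over D φ H) (r : ℕ) : xg D F r (1 : F) ∈ H :=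
  hH.rat _ (hC.toGood.xg_mem_group r 1) (by rw [gmap_xg φ hC, map_one])

omit hU in
theorem Over.nw_mem (hC : CommGood D) (hH : Over D φ H) {w : List ℕ} (hw : ∀ i ∈ w, i < D.rank) :
    nw D F w ∈ H :=
  hH.rat _ (hC.toGood.monomialSubgroup_le_group (hC.toGood.nw_mem_N hw)) (gmap_nw φ hC w)

/-- moving the parameter of a root element by a Weyl element -/
theorem Over.move (hH : Over D φ H) {r : ℕ} (hr : r < D.nroots) {w : List ℕ}
    (hw : ∀ i ∈ w, i < D.rank) (t : F) (h : xg D F r t ∈ H) : xg D F (actW D w r) t ∈ H := by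
  have hC := hU.toCommGood
  have hG := hC.toGood
  have h1 : xg D F (actW D w r) ((etaWord D w r : F) * t) ∈ H := by
    rw [← hG.nw_conj_x hw hr]
    exact mul_mem (mul_mem (hH.nw_mem hC hw) h) (inv_mem (hH.nw_mem hC hw))
  have h2 := zpow_mem h1 (etaWord D w r)
  rw [← hG.xg_zsmul, ← mul_assoc, ← Int.cast_mul, Good.etaWord_sq, Int.cast_one, one_mul] at h2
  exact h2

theorem Over.move_back (hH : Over D φ H) {r : ℕ} (hr : r < D.nroots) {w : List ℕ}
    (hw : ∀ i ∈ w, i < D.rank) (t : F) (h : xg D F (actW D w r) t ∈ H) : xg D F r t ∈ H := by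
  have hC := hU.toCommGood
  have hG := hC.toGood
  have hwr : ∀ i ∈ w.reverse, i < D.rank := fun i hi => hw i (List.mem_reverse.1 hi)
  have h1 := hH.move hU (hG.actW_lt hw hr) hwr t h
  have := hG.actW_reverse (w := w.reverse) hwr hr
  rw [List.reverse_reverse] at this
  rwa [this] at h1

/-- a coordinate which the commutator with a root element sends to a rational layer is rational -/
theorem Over.rational_coord (hH : Over D φ H) {s r c : ℕ} (hs : s < D.nroots) (hs1 : 1 ≤ ht D s)
    (hr : r < D.nroots) {m : ℤ} (hm : 1 ≤ m) (hrm : ht D r = m) (hsr : r ≠ s)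
    (hc : ∃ e ∈ D.commTerms s r, e.1 = c) (hcm : ht D c = m + ht D s)
    (hcF : (commCoef D s r c : F) ≠ 0) (hclean : ∀ m', m < m' → Clean φ H m')
    {x : GL D.Idx F} (hx : x ∈ XS D F (htGe D 1))
    (hxs : xg D F s 1 * x = x * xg D F s 1) {v : GL D.Idx F} {d : ℕ → F}
    (hv : Vec m v d) (hxv : x * v ∈ H) : φ (d r) = d r := by
  have hC := hU.toCommGood
  obtain ⟨d', h1, h2⟩ := comm_lin hU hs hs1 hr hm hrm hsr hc hcm hv
  have hm' : 1 ≤ m + ht D s := by omega
  have h3 := h1.conj hU hm' hx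
  have e : x * (xg D F s 1 * v * (xg D F s 1)⁻¹ * v⁻¹) * x⁻¹ =
      xg D F s 1 * (x * v) * (xg D F s 1)⁻¹ * (x * v)⁻¹ := by
    rw [show xg D F s 1 * (x * v) = x * xg D F s 1 * v by rw [← mul_assoc, hxs]]
    group
  rw [e] at h3
  have hmem : xg D F s 1 * (x * v) * (xg D F s 1)⁻¹ * (x * v)⁻¹ ∈ H :=
    mul_mem (mul_mem (mul_mem (hH.xg_one hC s) hxv) (inv_mem (hH.xg_one hC s))) (inv_mem hxv)
  have h4 := hclean (m + ht D s) (by omega) _ hmem (h3.mem hU)
  have h5 := vec_gmap hU φ h3
  rw [h4] at h5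
  have h6 := congrFun (h5.unique hU hm' h3) c
  simp only [h2, map_mul, map_intCast] at h6
  exact mul_left_cancel₀ hcF h6

/-- splitting off a rational layer -/
theorem Over.absorb (hH : Over D φ H) {m : ℤ} {v : GL D.Idx F} {d : ℕ → F} (hv : Vec m v d)
    (hd : ∀ r, φ (d r) = d r) :
    prodL D F (posL (D := D)) d ∈ H ∧
      gmap D φ (prodL D F (posL (D := D)) d) = prodL D F (posL (D := D)) d := by
  have hC := hU.toCommGood
  have hG := hC.toGood
  have e : gmap D φ (prodL D F (posL (D := D)) d) = prodL D F (posL (D := D)) d := by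
    simp only [prodL, map_list_prod, List.map_map]
    exact congrArg List.prod (List.map_congr_left fun r _ => by
      rw [Function.comp_apply, gmap_xg φ hC, hd])
  refine ⟨hH.rat _ ?_ e, e⟩
  exact list_prod_mem fun y hy => by
    obtain ⟨r, -, rfl⟩ := List.mem_map.1 hy
    exact hG.xg_mem_group r _

end Cfsg.Agent.Chev34

namespace Cfsg.Agent.Chev34

open Cfsg.Lie Cfsg.Agent.ChevCore Cfsg.Agent.Chev54

variable {D : ChevalleyDatum}

/-- every positive root outside `T` is moved up by a root element of `S` with a good coefficient; the only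
root of top height is `hi` -/
noncomputable def climbB (D : ChevalleyDatum) (good : ℤ → Bool) (S T : List ℕ) (hi : ℕ) : Bool :=
  decide (hi < D.nroots) && decide (1 ≤ ht D hi) &&
  (S.all fun s => decide (s < D.nroots) && decide (1 ≤ ht D s)) &&
  ((List.range D.nroots).all fun r => decide (ht D r ≤ 0) || decide (r = hi) ||
    (decide (ht D r < ht D hi) && (T.contains r || S.any fun s => decide (r ≠ s) &&
      (D.commTerms s r).any fun e => decide (ht D e.1 = ht D r + ht D s) && good (commCoef D s r e.1))))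

variable {F : Type*} [Field F] {φ : F →+* F} {H : Subgroup (GL D.Idx F)}

/-- all rational elements in `U` as soon as the highest root subgroup is rational -/
theorem Over.clean_one (hU : UGood D) (hH : Over D φ H) {good : ℤ → Bool}
    (hgood : ∀ z, good z = true → ((z : ℤ) : F) ≠ 0) {S T : List ℕ} {hi : ℕ}
    (hB : climbB D good S T hi = true) (htop : Clean φ H (ht D hi))
    (hT : ∀ r ∈ T, r < D.nroots → 1 ≤ ht D r → (∀ m', ht D r < m' → Clean φ H m') →
      ∀ v d, v ∈ H → Vec (ht D r) v d → φ (d r) = d r) :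
    Clean φ H 1 := by
  classical
  have hG := hU.toCommGood.toGood
  simp only [climbB, Bool.and_eq_true, decide_eq_true_eq, List.all_eq_true, List.mem_range,
    Bool.or_eq_true, List.contains_iff_mem, List.any_eq_true] at hB
  obtain ⟨⟨⟨hhi, -⟩, hS⟩, hR⟩ := hB
  suffices h : ∀ (n : ℕ) (m : ℤ), 1 ≤ m → ht D hi - m ≤ n → Clean φ H m from
    h _ 1 le_rfl (Int.self_le_toNat _)
  intro n
  induction n with
  | zero =>
    intro m _ hn v hv hvm
    exact htop v hv (XS_mono (fun r (h : m ≤ ht D r) => show ht D hi ≤ ht D r by omega) hvm)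
  | succ n ih =>
    intro m hm hn v hv hvm
    have hclean : ∀ m', m < m' → Clean φ H m' := fun m' hm' => ih m' (by omega) (by omega)
    by_cases hmtop : ht D hi ≤ m
    · exact htop v hv (XS_mono (fun r (h : m ≤ ht D r) => show ht D hi ≤ ht D r by omega) hvm)
    obtain ⟨d, hd⟩ := exists_vec hU hm hvm
    have hdr : ∀ r, φ (d r) = d r := by
      intro r
      by_cases h0 : d r = 0
      · rw [h0, map_zero]
      obtain ⟨hr, hrm⟩ := hd.1 r h0
      rcases hR r hr with (h | h) | h
      · omega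
      · subst h; omega
      · rcases h.2 with h' | ⟨s, hs, hsr, e, he, hhe, hge⟩
        · exact hT r h' hr (by omega) (fun m' h'' => hclean m' (by omega)) v d hv (hrm.symm ▸ hd)
        · obtain ⟨hs0, hs1⟩ := hS s hs
          exact hH.rational_coord hU hs0 hs1 hr hm hrm hsr ⟨e, he, rfl⟩ (by omega) (hgood _ hge)
            hclean (one_mem _) (by rw [mul_one, one_mul]) hd (by rwa [one_mul])
    obtain ⟨hP, hPσ⟩ := hH.absorb hU hd hdr
    have hrest := hclean (m + 1) (by omega) _ (mul_mem (inv_mem hP) hv) hd.2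
    rw [map_mul, map_inv, hPσ] at hrest
    exact mul_left_cancel hrest

/-- the roots `r0` which no rational root element moves -/
noncomputable def centralB (D : ChevalleyDatum) (p : ℕ) (r0 : ℕ) : Bool :=
  decide (r0 < D.nroots) && decide (1 ≤ ht D r0) &&
  ((List.range D.nroots).all fun s => decide (ht D s ≤ 0) || decide (s = r0) ||
    (decide (s ≠ D.neg r0) && (D.commTerms s r0).all fun e => decide (((p : ℤ)) ∣ e.2.1))) &&
  ((List.range D.nroots).all fun r => decide (r = r0) || decide (ht D r ≠ ht D r0))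

theorem central_commute (hU : UGood D) (p : ℕ) [CharP F p] {r0 : ℕ} (hB : centralB D p r0 = true)
    (c : F) {u : GL D.Idx F} (hu : u ∈ XS D F (htGe D 1)) : Commute u (xg D F r0 c) := by
  have hC := hU.toCommGood
  have hG := hC.toGood
  simp only [centralB, Bool.and_eq_true, decide_eq_true_eq, List.all_eq_true, List.mem_range,
    Bool.or_eq_true] at hB
  obtain ⟨⟨⟨hr0, hr01⟩, hs0⟩, -⟩ := hB
  suffices h : u ∈ Subgroup.centralizer {xg D F r0 c} from
    (Subgroup.mem_centralizer_iff.1 h _ rfl).symm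
  refine (show XS D F (htGe D 1) ≤ Subgroup.centralizer {xg D F r0 c} from
    XS_le fun s t hs hs1 => Subgroup.mem_centralizer_iff.2 fun z hz => ?_) hu
  rw [Set.mem_singleton_iff] at hz
  subst hz
  have hs1' : 1 ≤ ht D s := hs1
  by_cases he : r0 = s
  · rw [he, ← hG.xg_add, ← hG.xg_add, add_comm]
  rcases hs0 s hs with (h | h) | h
  · omega
  · exact absurd h.symm he
  · have hn : r0 ≠ D.neg s := fun e => by rw [e, hG.ht_neg hs] at hr01; omega
    have hW : wordG D F (D.commWord F s r0 t c) = 1 := by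
      refine List.prod_eq_one fun y hy => ?_
      obtain ⟨q, hq, rfl⟩ := List.mem_map.1 hy
      obtain ⟨e, hee, rfl⟩ := List.mem_map.1 hq
      have h0 : ((e.2.1 : ℤ) : F) = 0 := (CharP.intCast_eq_zero_iff F p _).2 (h.2 e hee)
      simp [h0, hG.xg_zero]
    have := hC.xg_comm hs hr0 he hn t c
    rwa [hW, mul_one] at this

/-- an element of the lowest irrational layer at a central root, reduced to two root elements -/
theorem Over.central_reduce (hU : UGood D) (hH : Over D φ H) (p : ℕ) [CharP F p] {good : ℤ → Bool}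
    (hgood : ∀ z, good z = true → ((z : ℤ) : F) ≠ 0) {S T : List ℕ} {hi r0 : ℕ}
    (hB : climbB D good S T hi = true) (hT : ∀ r ∈ T, ht D r ≤ ht D r0)
    (hC0 : centralB D p r0 = true) (hhi : ∀ r, r < D.nroots → ht D r = ht D hi → r = hi)
    (hlt : ht D r0 < ht D hi) (hclean : ∀ m', ht D r0 < m' → Clean φ H m') {v : GL D.Idx F} {d : ℕ → F}
    (hv : v ∈ H) (hd : Vec (ht D r0) v d) :
    ∃ t : F, xg D F r0 (d r0) * xg D F hi t ∈ H := by
  classical
  have hG := hU.toCommGood.toGood
  have hcomm := fun (c : F) {u} hu => central_commute (F := F) hU p hC0 c (u := u) hu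
  simp only [centralB, Bool.and_eq_true, decide_eq_true_eq, List.all_eq_true, List.mem_range,
    Bool.or_eq_true] at hC0
  obtain ⟨⟨⟨hr0, hr01⟩, -⟩, hsingle⟩ := hC0
  simp only [climbB, Bool.and_eq_true, decide_eq_true_eq, List.all_eq_true, List.mem_range,
    Bool.or_eq_true, List.contains_iff_mem, List.any_eq_true] at hB
  obtain ⟨⟨⟨hhin, -⟩, hS⟩, hR⟩ := hB
  set x := xg D F r0 (d r0)
  have hx : x ∈ XS D F (htGe D 1) := xg_mem_XS hr0 hr01 _
  have hd0 : d = Pi.single r0 (d r0) := by
    funext r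
    by_cases h : r = r0
    · subst h; simp
    · rw [Pi.single_eq_of_ne h]
      by_contra hne
      obtain ⟨hr, hrm⟩ := hd.1 r hne
      exact (hsingle r hr).elim h fun h' => h' hrm
  have hPx : prodL D F (posL (D := D)) d = x := by
    rw [hd0, hU.prodL_single posL_nodup ((mem_posL' hU r0).2 ⟨hr0, hr01⟩)]
  suffices h : ∀ (n : ℕ) (m : ℤ), ht D r0 < m → m ≤ ht D hi → ht D hi - m ≤ n →
      ∀ z ∈ XS D F (htGe D m), x * z ∈ H → ∃ t : F, x * xg D F hi t ∈ H by
    refine h _ (ht D r0 + 1) (by omega) (by omega) (Int.self_le_toNat _) _ hd.2 ?_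
    rw [hPx, mul_inv_cancel_left]
    exact hv
  intro n
  induction n with
  | zero =>
    intro m hm hmt hn z hz hxz
    obtain rfl : m = ht D hi := by omega
    obtain ⟨e, he⟩ := exists_vec hU (by omega) hz
    have hbot : XS D F (htGe D (ht D hi + 1)) = ⊥ := le_antisymm (XS_le fun r t hr hp => by
      have hp' : ht D hi + 1 ≤ ht D r := hp
      rcases hR r hr with (h | h) | h
      · omega
      · subst h; omega
      · omega) bot_le
    have he2 := he.2
    rw [hbot, Subgroup.mem_bot, inv_mul_eq_one] at he2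
    have he0 : e = Pi.single hi (e hi) := by
      funext r
      by_cases h : r = hi
      · subst h; simp
      · rw [Pi.single_eq_of_ne h]
        by_contra hne
        obtain ⟨hr, hrm⟩ := he.1 r hne
        exact h (hhi r hr hrm)
    refine ⟨e hi, ?_⟩
    rwa [← he2, he0, hU.prodL_single posL_nodup ((mem_posL' hU hi).2 ⟨hhin, by omega⟩)] at hxz
  | succ n ih =>
    intro m hm hmt hn z hz hxz
    by_cases hmtop : m = ht D hi
    · exact ih m hm hmt (by omega) z hz hxz
    obtain ⟨e, he⟩ := exists_vec hU (by omega) hz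
    have hed : ∀ r, φ (e r) = e r := by
      intro r
      by_cases h0 : e r = 0
      · rw [h0, map_zero]
      obtain ⟨hr, hrm⟩ := he.1 r h0
      rcases hR r hr with (h | h) | h
      · omega
      · subst h; omega
      · rcases h.2 with h' | ⟨s, hs, hsr, g, hg, hhg, hgg⟩
        · have := hT r h'; omega
        · obtain ⟨hs0, hs1⟩ := hS s hs
          exact hH.rational_coord hU hs0 hs1 hr (by omega) hrm hsr ⟨g, hg, rfl⟩ (by omega) (hgood _ hgg)
            (fun m' hm' => hclean m' (by omega)) hx (hcomm _ (xg_mem_XS hs0 hs1 1)).eq he hxz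
    obtain ⟨hP, -⟩ := hH.absorb hU he hed
    refine ih (m + 1) (by omega) (by omega) (by omega) _ he.2 ?_
    have hPU : prodL D F (posL (D := D)) e ∈ XS D F (htGe D 1) := hU.prodL_mem (posL_pos hU) e
    rw [← mul_assoc, ← (hcomm _ (inv_mem hPU)).eq, mul_assoc]
    exact mul_mem (inv_mem hP) hxz

end Cfsg.Agent.Chev34
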