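import Mathlib.FieldTheory.Finite.Basic
import Mathlib.Algebra.Algebra.Subalgebra.IsSimpleOrder
import Mathlib.GroupTheory.SpecificGroups.Cyclic
import Mathlib.FieldTheory.Fixed
import Mathlib.Algebra.Polynomial.Roots

/-!
A subring of a finite field containing a subfield of prime index and an element outside it is everything.
-/

set_option autoImplicit false

namespace Cfsg.Agent.Chev34

open Polynomial

variable {F : Type*} [Field F] [Fintype F]

theorem card_fixed_subfield {φ : F →+* F} {q r : ℕ} (hq : 2 ≤ q) (hr : 1 ≤ r)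
    (hφ : ∀ x, φ x = x ^ q) (hF : Fintype.card F = q ^ r) :
    Nat.card ↥(φ.eqLocusField (RingHom.id F)) = q := by
  classical
  have hmem : ∀ x : F, x ∈ φ.eqLocusField (RingHom.id F) ↔ x ^ q = x := fun x => by
    rw [← hφ]; rfl
  refine le_antisymm ?_ ?_
  · have hP : (X ^ q - X : F[X]) ≠ 0 := FiniteField.X_pow_card_sub_X_ne_zero F (by omega)
    have hd : (X ^ q - X : F[X]).natDegree = q := FiniteField.X_pow_card_sub_X_natDegree_eq F (by omega)
    calc Nat.card ↥(φ.eqLocusField (RingHom.id F)) ≤ Nat.card ↥((X ^ q - X : F[X]).roots.toFinset : Set F) :=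
          Nat.card_mono (Set.toFinite _) fun x hx => by
            simp [Multiset.mem_toFinset, Polynomial.mem_roots hP, (hmem x).1 hx]
      _ ≤ q := by
          rw [Nat.card_coe_set_eq, Set.ncard_coe_finset]
          exact (Multiset.toFinset_card_le _).trans ((Polynomial.card_roots' _).trans hd.le)
  · have hdvd : q - 1 ∣ Nat.card Fˣ := by
      rw [Nat.card_units, Nat.card_eq_fintype_card, hF]
      have := Nat.sub_dvd_pow_sub_pow q 1 r
      rwa [one_pow] at this
    have hker := IsCyclic.card_powMonoidHom_ker (G := Fˣ) (q - 1)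
    rw [Nat.gcd_eq_right hdvd] at hker
    let f : Option ↥(powMonoidHom (α := Fˣ) (q - 1)).ker → ↥(φ.eqLocusField (RingHom.id F)) := fun o =>
      match o with
      | none => ⟨0, (hmem 0).2 (zero_pow (by omega))⟩
      | some u => ⟨((u : Fˣ) : F), (hmem _).2 (by
          have h : ((u : Fˣ) : F) ^ (q - 1) = 1 := by
            rw [← Units.val_pow_eq_pow_val]
            have := u.2
            rw [MonoidHom.mem_ker, powMonoidHom_apply] at this
            rw [this, Units.val_one]
          calc ((u : Fˣ) : F) ^ q = ((u : Fˣ) : F) ^ (q - 1) * ((u : Fˣ) : F) := by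
                rw [← pow_succ]; congr 1; omega
            _ = _ := by rw [h, one_mul])⟩
    have hf : Function.Injective f := by
      rintro (_ | a) (_ | b) h <;> simp only [f, Subtype.mk.injEq] at h
      · rfl
      · exact absurd h.symm (Units.ne_zero _)
      · exact absurd h (Units.ne_zero _)
      · exact congrArg some (Subtype.ext (Units.ext h))
    have := Nat.card_le_card_of_injective f hf
    rw [Finite.card_option, hker] at this
    omega

theorem finrank_fixed_subfield {φ : F →+* F} {q r : ℕ} (hq : 2 ≤ q) (hr : 1 ≤ r)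
    (hφ : ∀ x, φ x = x ^ q) (hF : Fintype.card F = q ^ r) :
    Module.finrank ↥(φ.eqLocusField (RingHom.id F)) F = r := by
  have h := Module.natCard_eq_pow_finrank (K := ↥(φ.eqLocusField (RingHom.id F))) (V := F)
  rw [card_fixed_subfield hq hr hφ hF, Nat.card_eq_fintype_card, hF] at h
  exact (Nat.pow_right_injective hq h).symm

/-- an additive set closed under products, containing the fixed field and one more element -/
theorem eq_top_of_mul_closed {φ : F →+* F} {q r : ℕ} (hq : 2 ≤ q) (hr : r.Prime)
    (hφ : ∀ x, φ x = x ^ q) (hF : Fintype.card F = q ^ r) {A : Set F}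
    (hadd : ∀ x ∈ A, ∀ y ∈ A, x + y ∈ A) (hmul : ∀ x ∈ A, ∀ y ∈ A, x * y ∈ A)
    (hfix : ∀ x, φ x = x → x ∈ A) {c : F} (hc : c ∈ A) (hcφ : φ c ≠ c) (x : F) : x ∈ A := by
  let k := φ.eqLocusField (RingHom.id F)
  let S : Subalgebra ↥k F :=
    { carrier := A
      mul_mem' := fun {a b} ha hb => hmul a ha b hb
      one_mem' := hfix 1 (map_one φ)
      add_mem' := fun {a b} ha hb => hadd a ha b hb
      zero_mem' := hfix 0 (map_zero φ)
      algebraMap_mem' := fun a => hfix _ a.2 }
  have hp : (Module.finrank ↥k F).Prime := by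
    rw [finrank_fixed_subfield hq hr.one_le hφ hF]; exact hr
  haveI := Subalgebra.isSimpleOrder_of_finrank_prime ↥k F hp
  rcases IsSimpleOrder.eq_bot_or_eq_top S with h | h
  · exfalso
    have hcS : c ∈ S := hc
    rw [h, Algebra.mem_bot] at hcS
    obtain ⟨a, ha⟩ := hcS
    exact hcφ (ha ▸ a.2)
  · exact (show x ∈ S by rw [h]; exact Algebra.mem_top)

/-- an additive set invariant under the fixed field, with one more element, in degree two -/
theorem eq_top_of_smul_closed {φ : F →+* F} {q : ℕ} (hq : 2 ≤ q) (hφ : ∀ x, φ x = x ^ q)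
    (hF : Fintype.card F = q ^ 2) {A : Set F} (hadd : ∀ x ∈ A, ∀ y ∈ A, x + y ∈ A)
    (hsmul : ∀ a, φ a = a → ∀ x ∈ A, a * x ∈ A) (hfix : ∀ x, φ x = x → x ∈ A) {c : F}
    (hc : c ∈ A) (hcφ : φ c ≠ c) (x : F) : x ∈ A := by
  classical
  let k := φ.eqLocusField (RingHom.id F)
  let f : ↥k × ↥k → F := fun ab => (ab.1 : F) + (ab.2 : F) * c
  have hf : Function.Injective f := by
    rintro ⟨a, b⟩ ⟨a', b'⟩ h
    simp only [f] at h
    by_cases hb : b = b'
    · subst hb; rw [add_left_inj] at h; exact Prod.ext (Subtype.ext h) rfl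
    · exfalso
      have hne : (b : F) - b' ≠ 0 := sub_ne_zero.2 fun e => hb (Subtype.ext e)
      have e : c = ((a' : F) - a) / ((b : F) - b') := by
        field_simp
        linear_combination h
      refine hcφ ?_
      have ha := a.2; have hb' := b.2; have ha' := a'.2; have hb'' := b'.2
      change φ (a : F) = a at ha; change φ (b : F) = b at hb'
      change φ (a' : F) = a' at ha'; change φ (b' : F) = b' at hb''
      rw [e, map_div₀, map_sub, map_sub, ha, hb', ha', hb'']
  have hcard : Nat.card (↥k × ↥k) = Nat.card F := by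
    rw [Nat.card_prod, card_fixed_subfield hq (by omega) hφ hF, Nat.card_eq_fintype_card, hF, sq]
  obtain ⟨⟨a, b⟩, rfl⟩ := (Nat.bijective_iff_injective_and_card f).2 ⟨hf, hcard⟩ |>.2 x
  exact hadd _ (hfix _ a.2) _ (hsmul _ b.2 c hc)

/-- the trace to the fixed field, in odd degree, of an element fixed by squaring modulo `A` -/
theorem mem_of_sq_mod [CharP F 2] {φ : F →+* F} {q r a : ℕ} (hq : q = 2 ^ a) (hr : Odd r)
    (hφ : ∀ x, φ x = x ^ q) (hF : Fintype.card F = q ^ r) {A : AddSubgroup F}
    (hfix : ∀ x, φ x = x → x ∈ A) (hsq : ∀ x ∈ A, x ^ 2 ∈ A) {z : F} (hz : z ^ 2 + z ∈ A) : z ∈ A := by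
  have hneg : ∀ x : F, -x = x := fun x => CharTwo.neg_eq x
  have step : ∀ n : ℕ, z ^ 2 ^ n + z ∈ A := by
    intro n
    induction n with
    | zero => simp [CharTwo.add_self_eq_zero]
    | succ n ih =>
      have h1 := hsq _ ih
      rw [add_sq, show (2 : F) = 0 from CharTwo.two_eq_zero, zero_mul, zero_mul, add_zero, ← pow_mul,
        ← pow_succ] at h1
      have := A.add_mem h1 hz
      rwa [show z ^ 2 ^ (n + 1) + z ^ 2 + (z ^ 2 + z) = z ^ 2 ^ (n + 1) + z by
        rw [add_assoc, ← add_assoc (z ^ 2) (z ^ 2), CharTwo.add_self_eq_zero, zero_add]] at this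
  set T := ∑ i ∈ Finset.range r, z ^ q ^ i with hT
  have hTfix : φ T = T := by
    have e1 : φ T = ∑ i ∈ Finset.range r, z ^ q ^ (i + 1) := by
      rw [hT, map_sum]
      exact Finset.sum_congr rfl fun i _ => by rw [hφ, ← pow_mul, ← pow_succ]
    have e2 := Finset.sum_range_succ' (fun i => z ^ q ^ i) r
    have e3 := Finset.sum_range_succ (fun i => z ^ q ^ i) r
    have hzc : z ^ q ^ r = z := by rw [← hF]; exact FiniteField.pow_card z
    simp only [hzc, pow_zero, pow_one] at e2 e3
    rw [e1, hT]
    exact add_right_cancel (e2.symm.trans e3)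
  have hsum : T + r • z ∈ A := by
    have e : T + r • z = ∑ i ∈ Finset.range r, (z ^ q ^ i + z) := by
      rw [Finset.sum_add_distrib, Finset.sum_const, Finset.card_range, hT]
    rw [e]
    exact A.sum_mem fun i _ => by rw [hq, ← pow_mul]; exact step _
  have hrz : r • z = z := by
    obtain ⟨m, rfl⟩ := hr
    rw [nsmul_eq_mul]; push_cast
    rw [show (2 : F) = 0 from CharTwo.two_eq_zero]; ring
  rw [hrz] at hsum
  have := A.add_mem (hfix T hTfix) hsum
  rwa [← add_assoc, CharTwo.add_self_eq_zero, zero_add] at this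

end Cfsg.Agent.Chev34
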