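import Cfsg.Agent.Chev34.Climb
import Cfsg.Agent.Chev34.Subring
import Cfsg.Agent.Lib.ChevCore.ShortRoot

/-!
An overgroup of the rational points with an irrational element of the highest root subgroup is the whole group.
-/

set_option autoImplicit false

namespace Cfsg.Agent.Chev34

open Cfsg.Lie Cfsg.Agent.ChevCore Cfsg.Agent.Chev54

variable {D : ChevalleyDatum} {F : Type*} [Field F] (hU : UGood D) {φ : F →+* F}
  {H : Subgroup (GL D.Idx F)}

/-- the parameters of a root subgroup inside `H` -/
noncomputable def params (hU : UGood D) (H : Subgroup (GL D.Idx F)) (r : ℕ) : AddSubgroup F where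
  carrier := {t | xg D F r t ∈ H}
  add_mem' {a b} ha hb := by
    show xg D F r (a + b) ∈ H
    rw [hU.toCommGood.toGood.xg_add]; exact mul_mem ha hb
  zero_mem' := by
    show xg D F r 0 ∈ H
    rw [hU.toCommGood.toGood.xg_zero]; exact one_mem _
  neg_mem' {a} ha := by
    show xg D F r (-a) ∈ H
    rw [← hU.toCommGood.toGood.xg_inv]; exact inv_mem ha

theorem mem_params {r : ℕ} {t : F} : t ∈ params hU H r ↔ xg D F r t ∈ H := Iff.rfl

theorem fixed_mem_params (hH : Over D φ H) (r : ℕ) {t : F} (ht : φ t = t) : t ∈ params hU H r :=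
  hH.rat _ (hU.toCommGood.toGood.xg_mem_group r t) (by rw [gmap_xg φ hU.toCommGood, ht])

include hU

/-- the words of the `A₂` step at the highest root -/
noncomputable def stepB (D : ChevalleyDatum) (hi : ℕ) (wb wc : List ℕ) : Bool :=
  decide (hi < D.nroots) && wb.all (fun a => decide (a < D.rank)) && wc.all (fun a => decide (a < D.rank)) &&
  decide (actW D wb hi ≠ hi) && decide (actW D wb hi ≠ D.neg hi) &&
  (match D.commTerms hi (actW D wb hi) with
    | [e] => decide (e.1 = actW D wc hi) && decide (e.2.1.natAbs = 1) && decide (e.2.2 = (1, 1))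
    | _ => false)

theorem Over.top_all_step [Fintype F] (hH : Over D φ H) {q r : ℕ} (hq : 2 ≤ q) (hr : r.Prime)
    (hφ : ∀ x, φ x = x ^ q) (hF : Fintype.card F = q ^ r) {hi : ℕ} {wb wc : List ℕ}
    (hB : stepB D hi wb wc = true) {c : F} (hc : xg D F hi c ∈ H) (hcφ : φ c ≠ c) (t : F) :
    xg D F hi t ∈ H := by
  have hC := hU.toCommGood
  have hG := hC.toGood
  simp only [stepB, Bool.and_eq_true, decide_eq_true_eq, List.all_eq_true] at hB
  obtain ⟨⟨⟨⟨⟨hhi, hwb⟩, hwc⟩, hne⟩, hne'⟩, hm⟩ := hB
  refine eq_top_of_mul_closed hq hr hφ hF (A := (params hU H hi : Set F))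
    (fun x hx y hy => add_mem hx hy) (fun x hx y hy => ?_) (fun x hx => fixed_mem_params hU hH hi hx)
    (show c ∈ params hU H hi from hc) hcφ t
  have hb := hG.actW_lt hwb hhi
  match hT : D.commTerms hi (actW D wb hi), hm with
  | [e], hm =>
    simp only [Bool.and_eq_true, decide_eq_true_eq] at hm
    obtain ⟨⟨he1, he2⟩, he3⟩ := hm
    have hx' : xg D F hi x ∈ H := hx
    have hy' : xg D F (actW D wb hi) y ∈ H := hH.move hU hhi hwb y hy
    have hcom := hC.xg_comm hhi hb hne hne' x y
    have hW : wordG D F (D.commWord F hi (actW D wb hi) x y) =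
        xg D F (actW D wc hi) ((e.2.1 : F) * (-x) * y) := by
      have h1 : e.2.2.1 = 1 := by rw [he3]
      have h2 : e.2.2.2 = 1 := by rw [he3]
      simp [wordG, ChevalleyDatum.commWord, hT, he1, h1, h2]
    have hmem : xg D F (actW D wc hi) ((e.2.1 : F) * (-x) * y) ∈ H := by
      rw [← hW, show wordG D F (D.commWord F hi (actW D wb hi) x y) =
        (xg D F hi x * xg D F (actW D wb hi) y)⁻¹ * (xg D F (actW D wb hi) y * xg D F hi x) by
          rw [hcom]; group]
      exact mul_mem (inv_mem (mul_mem hx' hy')) (mul_mem hy' hx')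
    have h3 : (e.2.1 : F) * (-x) * y ∈ params hU H hi :=
      hH.move_back hU hhi hwc _ hmem
    rcases Int.natAbs_eq_iff.1 he2 with h | h <;> rw [h] at h3
    · simpa [neg_mem_iff] using h3
    · simpa using h3

/-- every simple root is in the orbit of the highest one or has pairing `±1` with a root in it -/
noncomputable def genB (D : ChevalleyDatum) (hi : ℕ) (W : List (List ℕ)) : Bool :=
  decide (hi < D.nroots) && (List.range D.rank).all fun i =>
    (W.getD i []).all (fun a => decide (a < D.rank)) &&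
      (decide (actW D (W.getD i []) hi = D.simple i) ||
        decide ((D.pairing (actW D (W.getD i []) hi) (D.simple i)).natAbs = 1))

theorem Over.eq_group (hH : Over D φ H) {hi : ℕ} {W : List (List ℕ)} (hB : genB D hi W = true)
    (hA : ∀ t : F, xg D F hi t ∈ H) : H = D.group F := by
  have hC := hU.toCommGood
  have hG := hC.toGood
  simp only [genB, Bool.and_eq_true, decide_eq_true_eq, List.all_eq_true, List.mem_range,
    Bool.or_eq_true] at hB
  obtain ⟨hhi, hW⟩ := hB
  have hsimple : ∀ i < D.rank, ∀ t : F, xg D F (D.simple i) t ∈ H := by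
    intro i hi' t
    obtain ⟨hw, hor⟩ := hW i hi'
    set w := W.getD i []
    rcases hor with h | h
    · exact h ▸ hH.move hU hhi hw t (hA t)
    · set l := actW D w hi
      have hl : l < D.nroots := hG.actW_lt hw hhi
      have hlA : ∀ t : F, xg D F l t ∈ H := fun t => hH.move hU hhi hw t (hA t)
      by_cases ht : t = 0
      · rw [ht, hG.xg_zero]; exact one_mem _
      have hneg : ∀ t : F, xg D F (D.neg l) t ∈ H := fun t => by
        have e := hG.ng_conj_self (F := F) hl (-t)
        rw [neg_neg] at e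
        have hn : ng D F l 1 ∈ H := hH.rat _ (hG.ng_mem_group l 1) (by rw [gmap_ng φ hC, map_one])
        exact e ▸ mul_mem (mul_mem hn (hlA _)) (inv_mem hn)
      have hh : ∀ u : F, hg D F l u ∈ H := fun u =>
        mul_mem (mul_mem (mul_mem (hlA _) (hneg _)) (hlA _))
          (mul_mem (mul_mem (hlA _) (hneg _)) (hlA _))
      obtain ⟨u, hu, hut⟩ : ∃ u : F, u ≠ 0 ∧ u ^ D.pairing l (D.simple i) = t := by
        rcases Int.natAbs_eq_iff.1 h with h' | h'
        · exact ⟨t, ht, by rw [h']; simp⟩
        · exact ⟨t⁻¹, inv_ne_zero ht, by rw [h']; simp⟩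
      have e := hG.hg_conj_x hl (hG.simple_lt hi') hu (1 : F)
      rw [hut, mul_one] at e
      exact e ▸ mul_mem (mul_mem (hh u) (hH.xg_one hC _)) (inv_mem (hh u))
  refine le_antisymm hH.le ?_
  rw [hG.group_eq]
  refine XS_le fun r t hr _ => ?_
  obtain ⟨w, hw, i, hi', rfl⟩ := hG.exists_word hr
  exact hH.move hU (hG.simple_lt hi') hw t (hsimple i hi' t)

end Cfsg.Agent.Chev34
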