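import Cfsg.Agent.Chev34.Radical
import Cfsg.Agent.Lib.Involution.Dihedral
import Mathlib.GroupTheory.Nilpotent
import Mathlib.GroupTheory.Sylow

/-!
An overgroup of the rational points whose unipotent elements are rational: its `p`-local subgroups
are rational.
-/

set_option autoImplicit false

namespace Cfsg.Agent.Chev34

open Cfsg.Lie Cfsg.Agent.ChevCore Cfsg.Agent.ChevBT Cfsg.Agent.Chev54

section abstract

/-- A subgroup containing the normalisers of its non-trivial `p`-subgroups controls their fusion. -/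
theorem mem_of_conj_mem {G : Type*} [Group G] [Finite G] (p : ℕ) [Fact p.Prime] (M : Subgroup G)
    (hN : ∀ Q : Subgroup G, Q ≤ M → IsPGroup p Q → Q ≠ ⊥ → Subgroup.normalizer (Q : Set G) ≤ M)
    {x g : G} (hx : x ∈ M) (hxp : ∃ k : ℕ, x ^ p ^ k = 1) (hx1 : x ≠ 1) (hg : g * x * g⁻¹ ∈ M) :
    g ∈ M := by
  classical
  set y := g * x * g⁻¹ with hy
  set A := M ⊓ M.map (MulAut.conj g).toMonoidHom with hA
  have hyA : y ∈ A := ⟨hg, ⟨x, hx, by simp [hy]⟩⟩
  have hyp : IsPGroup p (Subgroup.zpowers (⟨y, hyA⟩ : A)) := by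
    rintro ⟨z, hz⟩
    obtain ⟨i, rfl⟩ := Subgroup.mem_zpowers_iff.1 hz
    obtain ⟨k, hk⟩ := hxp
    refine ⟨k, Subtype.ext (Subtype.ext ?_)⟩
    have hyk : y ^ p ^ k = 1 := by rw [hy, conj_pow, hk, mul_one, mul_inv_cancel]
    simp only [SubmonoidClass.coe_pow, SubgroupClass.coe_zpow, OneMemClass.coe_one]
    rw [← zpow_natCast, ← zpow_mul, mul_comm, zpow_mul, zpow_natCast, hyk, one_zpow]
  obtain ⟨S, hS⟩ := hyp.exists_le_sylow
  set R : Subgroup G := (S : Subgroup A).map A.subtype with hR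
  have hRA : R ≤ A := Subgroup.map_subtype_le _
  have hRp : IsPGroup p R := S.isPGroup'.map _
  have hRne : R ≠ ⊥ := fun h => by
    have : y ∈ R := ⟨⟨y, hyA⟩, hS (Subgroup.mem_zpowers _), rfl⟩
    rw [h, Subgroup.mem_bot] at this
    exact hx1 (by simpa [hy, conj_eq_one_iff] using this)
  have hRM : R ≤ M := hRA.trans inf_le_left
  -- the conjugate of `R` inside `M`
  set R₁ : Subgroup G := R.map (MulAut.conj g⁻¹).toMonoidHom with hR₁
  have hR₁M : R₁ ≤ M := by
    rintro _ ⟨r, hr, rfl⟩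
    obtain ⟨m, hm, e⟩ := (hRA hr).2
    simp only [MulEquiv.coe_toMonoidHom, MulAut.conj_apply] at e ⊢
    rw [← e]
    simpa [mul_assoc] using hm
  have hR₁ne : R₁ ≠ ⊥ := fun h => hRne (by
    rw [hR₁, Subgroup.map_eq_bot_iff_of_injective _ (MulAut.conj g⁻¹).injective] at h
    exact h)
  have hNR : Subgroup.normalizer (R : Set G) ≤ A := by
    intro n hn
    refine ⟨hN R hRM hRp hRne hn, ⟨g⁻¹ * n * g, hN R₁ hR₁M (hRp.map _) hR₁ne ?_, by simp [mul_assoc]⟩⟩
    rw [Subgroup.mem_normalizer_iff]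
    intro z
    simp only [hR₁, Subgroup.mem_map_equiv, SetLike.mem_coe]
    rw [show (MulAut.conj g⁻¹).symm z = g * z * g⁻¹ by simp,
      show (MulAut.conj g⁻¹).symm (g⁻¹ * n * g * z * (g⁻¹ * n * g)⁻¹) =
        n * (g * z * g⁻¹) * n⁻¹ by simp [mul_assoc]]
    exact Subgroup.mem_normalizer_iff.1 hn (g * z * g⁻¹)
  -- `R` is a Sylow subgroup of the whole group
  obtain ⟨P, hP⟩ := hRp.exists_le_sylow
  have hPR : (P : Subgroup G) = R := by
    by_contra hne
    haveI := P.isPGroup'.isNilpotent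
    have hlt : R.subgroupOf (P : Subgroup G) < ⊤ := lt_top_iff_ne_top.2 fun h =>
      hne (le_antisymm (Subgroup.subgroupOf_eq_top.1 h) hP)
    have h2 := Group.normalizerCondition_of_isNilpotent (G := ↥(P : Subgroup G)) _ hlt
    obtain ⟨n, hn, hnR⟩ := SetLike.exists_of_lt h2
    have hnN : (n : G) ∈ Subgroup.normalizer (R : Set G) := by
      rw [Subgroup.mem_normalizer_iff]
      intro z
      refine ⟨fun hz => ?_, fun hz => ?_⟩
      · exact (Subgroup.mem_normalizer_iff.1 hn ⟨z, hP hz⟩).1 hz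
      · have hzP : z ∈ (P : Subgroup G) := by
          have := mul_mem (mul_mem (inv_mem n.2) (hP hz)) n.2
          simpa [mul_assoc] using this
        exact (Subgroup.mem_normalizer_iff.1 hn ⟨z, hzP⟩).2 hz
    -- `R` and `n` generate a `p`-subgroup of `A`
    set R' := R ⊔ Subgroup.zpowers (n : G)
    have hR'A : R' ≤ A := sup_le hRA (Subgroup.zpowers_le.2 (hNR hnN))
    have hR'p : IsPGroup p R' :=
      P.isPGroup'.to_le (sup_le hP (Subgroup.zpowers_le.2 n.2))
    have hSle : (S : Subgroup A) ≤ R'.subgroupOf A := fun a ha =>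
      (le_sup_left : R ≤ R') ⟨a, ha, rfl⟩
    have hR'p' : IsPGroup p (R'.subgroupOf A) := hR'p.comap_subtype
    have heq := S.is_maximal' hR'p' hSle
    have hmem : (⟨n, hNR hnN⟩ : A) ∈ R'.subgroupOf A :=
      (le_sup_right : Subgroup.zpowers (n : G) ≤ R') (Subgroup.mem_zpowers _)
    rw [heq] at hmem
    exact hnR (show (n : G) ∈ R from ⟨_, hmem, rfl⟩)
  -- conjugate `R₁` to `R` inside `M`
  let P₁ : Sylow p G := g⁻¹ • P
  have hP₁ : (P₁ : Subgroup G) = R₁ := by
    rw [hR₁, ← hPR]; rfl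
  have hPM : (P : Subgroup G) ≤ M := hPR ▸ hRM
  have hP₁M : (P₁ : Subgroup G) ≤ M := hP₁ ▸ hR₁M
  obtain ⟨m, hm⟩ := MulAction.exists_smul_eq ↥M (P₁.subtype hP₁M) (P.subtype hPM)
  have hm' : (m : G) • P₁ = P := by
    rw [Sylow.smul_subtype] at hm
    exact Sylow.subtype_injective hm
  have hn : (m : G) * g⁻¹ ∈ Subgroup.normalizer (P : Set G) := by
    rw [← Sylow.smul_eq_iff_mem_normalizer, mul_smul]
    exact hm'
  have h1 : (m : G) * g⁻¹ ∈ M := hN _ hPM P.isPGroup' (hPR ▸ hRne) hn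
  have h2 : g⁻¹ ∈ M := by simpa using mul_mem (inv_mem m.2) h1
  simpa using inv_mem h2

end abstract

variable {D : ChevalleyDatum} {F : Type*} [Field F] (φ : F →+* F)

omit φ in
theorem parabolic_le_group (hG : Good D) (hs : chkSupp D = true) (J : Set ℕ) :
    D.parabolicSubgroup F J ≤ D.group F := by
  rw [hG.parabolic_eq hs]
  refine sup_le hG.diagonalSubgroup_le_group ?_
  rw [hG.group_eq]
  exact XS_mono fun _ _ => trivial

/-- the rational points -/
noncomputable def ratPts (D : ChevalleyDatum) (φ : F →+* F) : Subgroup (GL D.Idx F) :=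
  D.group F ⊓ MonoidHom.eqLocus (gmap D φ) (MonoidHom.id _)

theorem mem_ratPts {g : GL D.Idx F} :
    g ∈ ratPts D φ ↔ g ∈ D.group F ∧ gmap D φ g = g := Iff.rfl

/-- an overgroup of the rational points with rational unipotent elements -/
structure RatU (D : ChevalleyDatum) (φ : F →+* F) (H : Subgroup (GL D.Idx F)) : Prop where
  le : H ≤ D.group F
  rat : ratPts D φ ≤ H
  unip : ∀ u ∈ H, u ∈ XS D F (htGe D 1) → gmap D φ u = u

variable {φ} {H : Subgroup (GL D.Idx F)}
variable (hD : D ∈ [chevG2, chevB2, chevD4, chevF4, chevE6, chevE7, chevE8]) (hH : RatU D φ H)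
include hD hH

/-- the elements of `H` in a proper standard parabolic subgroup are rational -/
theorem RatU.parabolic {J : Set ℕ} (hJ : ∃ i, i < D.rank ∧ i ∉ J) {h : GL D.Idx F} (hh : h ∈ H)
    (hhP : h ∈ D.parabolicSubgroup F J) : gmap D φ h = h := by
  have hU := uGood_of_mem hD
  have hC := hU.toCommGood
  have hG := hC.toGood
  have hs := chkSupp_of_mem hD
  have hnorm := hC.parabolic_le_normalizer (F := F) hs J
  have hradU : ∀ y ∈ D.unipotentRadical F J, y ∈ XS D F (htGe D 1) := fun y hy => by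
    rw [hG.unipotentRadical_eq hs] at hy
    exact XS_mono (fun r hr => hr.1) hy
  set σ := gmap D φ
  set d := h⁻¹ * σ h
  have hdP : d ∈ D.parabolicSubgroup F J := mul_mem (inv_mem hhP) (gmap_parabolic φ hC hs hhP)
  have hd : d ∈ D.unipotentRadical F J := by
    refine mem_radical_of_centralizes hU J hD hJ hdP (parabolic_le_group hG hs J hdP)
      fun r hr hrJ => ?_
    have hx : xg D F r (1 : F) ∈ ratPts D φ :=
      ⟨hG.xg_mem_group r 1, by simp [MonoidHom.eqLocus, gmap_xg φ hC]⟩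
    have hz : h * xg D F r 1 * h⁻¹ ∈ XS D F (htGe D 1) :=
      hradU _ ((Subgroup.mem_normalizer_iff.1 (hnorm hhP) _).1 (by
        rw [hG.unipotentRadical_eq hs]; exact xg_mem_XS hr hrJ _))
    have e := hH.unip _ (mul_mem (mul_mem hh (hH.rat hx)) (inv_mem hh)) hz
    rw [map_mul, map_mul, map_inv, gmap_xg φ hC, map_one] at e
    calc d * xg D F r 1 = h⁻¹ * (σ h * xg D F r 1 * (σ h)⁻¹) * σ h := by simp only [d]; group
      _ = h⁻¹ * (h * xg D F r 1 * h⁻¹) * σ h := by rw [e]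
      _ = xg D F r 1 * d := by simp only [d]; group
  have hlnorm : D.leviSubgroup F J ≤ D.parabolicSubgroup F J := by
    rw [← hG.radical_sup_levi hs]; exact le_sup_right
  have hdec : h ∈ ((D.unipotentRadical F J ⊔ D.leviSubgroup F J : Subgroup (GL D.Idx F)) :
      Set (GL D.Idx F)) := by
    rw [hG.radical_sup_levi hs]; exact hhP
  rw [Subgroup.coe_mul_of_right_le_normalizer_left _ _ (hlnorm.trans hnorm)] at hdec
  obtain ⟨r, hr, l, hl, rfl⟩ := Set.mem_mul.1 hdec
  -- the Levi part is rational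
  have hl1 : l⁻¹ * σ l ∈ D.unipotentRadical F J ⊓ D.leviSubgroup F J := by
    refine Subgroup.mem_inf.2 ⟨?_, mul_mem (inv_mem hl) (gmap_levi φ hC hs hl)⟩
    have h1 : l⁻¹ * (r⁻¹ * σ r) * l ∈ D.unipotentRadical F J := by
      have := (Subgroup.mem_normalizer_iff.1 (hnorm (hlnorm (inv_mem hl))) _).1
        (mul_mem (inv_mem hr) (gmap_radical φ hC hs hr))
      simpa using this
    have e : l⁻¹ * σ l = (l⁻¹ * (r⁻¹ * σ r) * l)⁻¹ * d := by
      simp only [d, σ, map_mul]; group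
    rw [e]
    exact mul_mem (inv_mem h1) hd
  rw [hG.radical_inf_levi hs, Subgroup.mem_bot, inv_mul_eq_one] at hl1
  have hlH : l ∈ H :=
    hH.rat ⟨parabolic_le_group hG hs J (hlnorm hl), hl1.symm⟩
  have hrH : r ∈ H := by simpa using mul_mem hh (inv_mem hlH)
  rw [map_mul, hH.unip r hrH (hradU r hr)]
  exact congrArg (r * ·) hl1.symm

variable [Fintype F] (p f : ℕ) [Fact p.Prime] (hF : Fintype.card F = p ^ f)
include hF

/-- the normaliser in `H` of a rational `p`-group is rational -/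
theorem RatU.normalizer {Q : Subgroup (GL D.Idx F)} (hQ : Q ≤ ratPts D φ) (hQp : IsPGroup p Q)
    (hQ1 : Q ≠ ⊥) {n : GL D.Idx F} (hn : n ∈ H)
    (hnQ : n ∈ Subgroup.normalizer (Q : Set (GL D.Idx F))) : gmap D φ n = n := by
  have hU := uGood_of_mem hD
  have hC := hU.toCommGood
  have hG := hC.toGood
  have hQG : Q ≤ D.group F := hQ.trans inf_le_left
  obtain ⟨g, hg, J, hJ, huniq, hN, -⟩ := borel_tits_optimal hG p f hF hD Q hQG hQp hQ1
  have hpairs : pairs (Q : Set (GL D.Idx F)) (gmap D φ g) = pairs (Q : Set (GL D.Idx F)) g := by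
    ext ⟨a, b⟩
    have key : ∀ u ∈ Q, (((gmap D φ g)⁻¹ * u * gmap D φ g : GL D.Idx F) : Matrix D.Idx D.Idx F) - 1 =
        (((g⁻¹ * u * g : GL D.Idx F) : Matrix D.Idx D.Idx F) - 1).map φ := fun u hu => by
      have hu' : gmap D φ u = u := (hQ hu).2
      conv_lhs => rw [← hu', ← map_inv, ← map_mul, ← map_mul, val_gmap]
      rw [Matrix.map_sub _ (fun x y => map_sub φ x y), Matrix.map_one _ φ.map_zero φ.map_one]
    simp only [mem_pairs, SetLike.mem_coe]
    refine exists_congr fun u => and_congr_right fun hu => ?_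
    rw [key u hu, Matrix.map_apply]
    exact (map_ne_zero φ)
  obtain ⟨m, hm, hfix, hmP⟩ := exists_rational_coset φ hC hD hg
    (huniq _ (gmap_group φ hC hg) hpairs)
  have hmH : m ∈ H := hH.rat ⟨hm, hfix⟩
  obtain ⟨q, hq, e⟩ := hN ⟨hnQ, hH.le hn⟩
  simp only [MulEquiv.coe_toMonoidHom, MulAut.conj_apply] at e
  have h1 : m⁻¹ * n * m ∈ D.parabolicSubgroup F J := by
    have : m⁻¹ * n * m = (m⁻¹ * g) * q * (m⁻¹ * g)⁻¹ := by rw [← e]; group
    rw [this]
    exact mul_mem (mul_mem hmP hq) (inv_mem hmP)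
  have h2 := hH.parabolic hD hJ (mul_mem (mul_mem (inv_mem hmH) hn) hmH) h1
  rw [map_mul, map_mul, map_inv, hfix] at h2
  exact mul_left_cancel (mul_right_cancel h2)

/-- the centralizer in `H` of a rational `p`-element is rational -/
theorem RatU.centralizer {v : GL D.Idx F} (hv : v ∈ ratPts D φ) (hvp : ∃ k : ℕ, v ^ p ^ k = 1)
    (hv1 : v ≠ 1) {n : GL D.Idx F} (hn : n ∈ H) (hnv : n * v = v * n) : gmap D φ n = n := by
  refine hH.normalizer hD p f hF (Q := Subgroup.zpowers v) (Subgroup.zpowers_le.2 hv) ?_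
    (Subgroup.zpowers_ne_bot.2 hv1) hn ?_
  · rintro ⟨z, hz⟩
    obtain ⟨i, rfl⟩ := Subgroup.mem_zpowers_iff.1 hz
    obtain ⟨k, hk⟩ := hvp
    refine ⟨k, Subtype.ext ?_⟩
    simp only [SubmonoidClass.coe_pow, OneMemClass.coe_one]
    rw [← zpow_natCast, ← zpow_mul, mul_comm, zpow_mul, zpow_natCast, hk, one_zpow]
  · refine Subgroup.centralizer_le_normalizer _ (Subgroup.mem_centralizer_iff.2 fun z hz => ?_)
    obtain ⟨i, rfl⟩ := Subgroup.mem_zpowers_iff.1 hz
    exact (Commute.zpow_right (show Commute n v from hnv) i).symm.eq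

/-- a rational `p`-element moved into the rational points by an element of `H` -/
theorem RatU.of_conj_mem {v : GL D.Idx F} (hv : v ∈ ratPts D φ) (hvp : ∃ k : ℕ, v ^ p ^ k = 1)
    (hv1 : v ≠ 1) {n : GL D.Idx F} (hn : n ∈ H) (hnv : gmap D φ (n * v * n⁻¹) = n * v * n⁻¹) :
    gmap D φ n = n := by
  have h := mem_of_conj_mem p ((ratPts D φ).subgroupOf H) (fun Q hQ hQp hQ1 z hz => ?_)
    (x := ⟨v, hH.rat hv⟩) (g := ⟨n, hn⟩) hv (hvp.imp fun k hk => Subtype.ext hk)
    (fun e => hv1 (congrArg Subtype.val e))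
    ⟨hH.le (mul_mem (mul_mem hn (hH.rat hv)) (inv_mem hn)), hnv⟩
  · exact h.2
  refine ⟨hH.le z.2, hH.normalizer hD p f hF (Q := Q.map H.subtype) ?_ (hQp.map _) (fun e => hQ1 ?_) z.2 ?_⟩
  · rintro _ ⟨y, hy, rfl⟩
    exact hQ hy
  · rwa [Subgroup.map_eq_bot_iff_of_injective _ H.subtype_injective] at e
  · rw [Subgroup.mem_normalizer_iff]
    intro w
    have key := Subgroup.mem_normalizer_iff.1 hz
    constructor
    · rintro ⟨y, hy, rfl⟩
      exact ⟨z * y * z⁻¹, (key y).1 hy, rfl⟩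
    · rintro ⟨y, hy, e⟩
      refine ⟨z⁻¹ * y * z, (key _).2 (by simpa [mul_assoc] using hy), ?_⟩
      show (z : GL D.Idx F)⁻¹ * (y : GL D.Idx F) * z = w
      rw [show (y : GL D.Idx F) = z * w * (z : GL D.Idx F)⁻¹ from e]
      group

/-- in characteristic two, `H` is rational as soon as there are two rational classes of involutions -/
theorem RatU.eq_two (hp : p = 2) {x t : GL D.Idx F} (hx : x ∈ ratPts D φ) (ht : t ∈ ratPts D φ)
    (hx2 : orderOf x = 2) (ht2 : orderOf t = 2) (hxt : ¬ ∃ g ∈ D.group F, g * x * g⁻¹ = t) :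
    H = ratPts D φ := by
  subst hp
  refine le_antisymm (fun n hn => ⟨hH.le hn, ?_⟩) hH.rat
  by_contra hnR
  have pw : ∀ {v : GL D.Idx F}, orderOf v = 2 → ∃ k : ℕ, v ^ 2 ^ k = 1 := fun hv =>
    ⟨1, by rw [pow_one, ← hv]; exact pow_orderOf_eq_one _⟩
  have ne : ∀ {v : GL D.Idx F}, orderOf v = 2 → v ≠ 1 := fun hv e => by
    rw [e, orderOf_one] at hv; omega
  set y := n * x * n⁻¹
  have hyH : y ∈ H := mul_mem (mul_mem hn (hH.rat hx)) (inv_mem hn)
  have hyR : ¬ gmap D φ y = y := fun h => hnR (hH.of_conj_mem hD 2 f hF hx (pw hx2) (ne hx2) hn h)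
  have ht' : orderOf (⟨t, hH.rat ht⟩ : H) = 2 := by rw [← Subgroup.orderOf_coe]; exact ht2
  have hy' : orderOf (⟨y, hyH⟩ : H) = 2 := by
    rw [← Subgroup.orderOf_coe]
    show orderOf (n * x * n⁻¹) = 2
    rw [← MulAut.conj_apply, MulEquiv.orderOf_eq, hx2]
  by_cases hc : IsConj (⟨t, hH.rat ht⟩ : H) ⟨y, hyH⟩
  · obtain ⟨c, hc⟩ := isConj_iff.1 hc
    have e : (c : GL D.Idx F) * t * (c : GL D.Idx F)⁻¹ = n * x * n⁻¹ := congrArg Subtype.val hc
    refine hxt ⟨(c : GL D.Idx F)⁻¹ * n, mul_mem (inv_mem (hH.le c.2)) (hH.le hn), ?_⟩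
    calc _ = (c : GL D.Idx F)⁻¹ * (n * x * n⁻¹) * c := by group
      _ = t := by rw [← e]; group
  · obtain ⟨v, hv2, hvt, hvy, -⟩ := Involution.exists_commuting_involution ht' hy' hc
    have hvR : gmap D φ (v : GL D.Idx F) = v :=
      hH.centralizer hD 2 f hF ht (pw ht2) (ne ht2) v.2 (congrArg Subtype.val hvt.eq)
    have hv2' : orderOf (v : GL D.Idx F) = 2 := by rw [Subgroup.orderOf_coe]; exact hv2
    exact hyR (hH.centralizer hD 2 f hF ⟨hH.le v.2, hvR⟩ (pw hv2') (ne hv2') hyH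
      (congrArg Subtype.val hvy.eq).symm)

end Cfsg.Agent.Chev34
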