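import Cfsg.Agent.Chev34.Locals
import Cfsg.Agent.Classical10.Dickson
import Cfsg.Agent.Lib.ChevCore.RankOneHom

/-!
In odd characteristic an overgroup of the rational points with rational unipotent elements is rational:
two opposite long root elements give a rational central involution of a long root `SL₂`.
-/

set_option autoImplicit false

namespace Cfsg.Agent.Chev34

open Cfsg.Lie Cfsg.Agent.ChevCore Cfsg.Agent.Chev54
open scoped MatrixGroups

/-- the data at the highest root `hi` used in odd characteristic: a set of roots stable under the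
reflections containing it, and a root `s` orthogonal to it -/
noncomputable def oddB (D : ChevalleyDatum) (hi s : ℕ) (P : List ℕ) : Bool :=
  decide (hi < D.nroots) && decide (s < D.nroots) && P.contains hi && decide (1 ≤ ht D hi) &&
  decide (1 ≤ ht D s) && decide (D.pairing hi s = 0) &&
  ((List.range D.rank).all fun i => P.all fun r => P.contains (D.reflectRoot i r)) &&
  ((List.range D.nroots).all fun r => decide (ht D r ≤ ht D hi) &&
    (decide (ht D r ≤ 0) || decide (r = hi) || decide ((D.pairing hi r).natAbs = 1) ||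
      (decide (D.pairing hi r = 0) && (D.commTerms r hi).isEmpty &&
        (D.commTerms r (D.neg hi)).isEmpty))) &&
  (P.all fun b => decide (b < D.nroots) && (decide (b = hi) || decide (b = D.neg hi) ||
    match D.commTerms hi b with
    | [] => true
    | [e] => decide (e.2.1.natAbs = 1) && (D.commTerms hi e.1).isEmpty &&
        (D.commTerms b e.1).isEmpty && decide (e.1 ≠ hi) && decide (e.1 ≠ D.neg hi) &&
        decide (e.1 ≠ b) && decide (e.1 ≠ D.neg b)
    | _ => false))

variable {D : ChevalleyDatum} {F : Type*} [Field F]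

theorem commute_xg (hC : CommGood D) {r s : ℕ} (hr : r < D.nroots) (hs : s < D.nroots) (h1 : s ≠ r)
    (h2 : s ≠ D.neg r) (hT : D.commTerms r s = []) (t u : F) :
    Commute (xg D F r t) (xg D F s u) := by
  have e := hC.xg_comm hr hs h1 h2 t u
  rw [show wordG D F (D.commWord F r s t u) = 1 by simp [wordG, ChevalleyDatum.commWord, hT],
    mul_one] at e
  exact e.symm

theorem xg_pow (hG : Good D) (r : ℕ) (t : F) (n : ℕ) : xg D F r t ^ n = xg D F r (n * t) := by
  induction n with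
  | zero => simp [hG.xg_zero]
  | succ n ih => rw [pow_succ, ih, ← hG.xg_add]; congr 1; push_cast; ring

theorem borel_conj_top (hU : UGood D) {r : ℕ} (hr : r < D.nroots) (hr1 : 1 ≤ ht D r)
    (htop : ∀ s, s < D.nroots → ht D s ≤ ht D r) {b : GL D.Idx F} (hb : b ∈ D.borelSubgroup F)
    (t : F) : ∃ a : F, a ≠ 0 ∧ b * xg D F r t * b⁻¹ = xg D F r (a * t) := by
  have hG := hU.toCommGood.toGood
  obtain ⟨u, hu, h, hh, rfl⟩ := hG.mem_borel hb
  rw [hG.posUnipotent_eq] at hu
  obtain ⟨a, ha0, ha⟩ := hG.conj_xg_of_mem_H hh hr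
  refine ⟨a, ha0, ?_⟩
  have hc := hU.conj_congr (F := F) hr1 (inv_mem hu) hr le_rfl (a * t)
  rw [inv_inv] at hc
  have hbot : XS D F (htGe D (ht D r + 1)) = ⊥ := le_antisymm (XS_le fun s c hs hp => by
    have := htop s hs
    have hp' : ht D r + 1 ≤ ht D s := hp
    omega) bot_le
  rw [hbot, Subgroup.mem_bot, mul_inv_eq_one] at hc
  rw [← hc, ← ha]
  group

theorem sl_eq_neg_one {K : Type*} [Field K] (h2 : (2 : K) ≠ 0) {g : SL(2, K)}
    (hg : orderOf g = 2) : g = -1 := by
  have hne : g ≠ 1 := fun e => by rw [e, orderOf_one] at hg; omega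
  have hsq : g * g = 1 := by
    have := pow_orderOf_eq_one g
    rwa [hg, pow_two] at this
  have h00 := congrArg (fun M : SL(2, K) => M 0 0) hsq
  have h01 := congrArg (fun M : SL(2, K) => M 0 1) hsq
  have h10 := congrArg (fun M : SL(2, K) => M 1 0) hsq
  have h11 := congrArg (fun M : SL(2, K) => M 1 1) hsq
  have hdet := g.det_coe
  rw [Matrix.det_fin_two] at hdet
  simp [Matrix.SpecialLinearGroup.coe_mul, Matrix.mul_apply, Fin.sum_univ_two] at h00 h01 h10 h11
  have hadd : g 0 0 + g 1 1 ≠ 0 := fun e => h2 (by linear_combination g 0 0 * e - h00 - hdet)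
  have hb : g 0 1 = 0 := (mul_eq_zero.1 (by linear_combination h01 :
    g 0 1 * (g 0 0 + g 1 1) = 0)).resolve_right hadd
  have hc : g 1 0 = 0 := (mul_eq_zero.1 (by linear_combination h10 :
    g 1 0 * (g 0 0 + g 1 1) = 0)).resolve_right hadd
  simp only [hb, hc, mul_zero, add_zero, sub_zero, zero_add] at h00 h11 hdet
  rcases mul_self_eq_one_iff.1 h00 with ha | ha
  · refine absurd ?_ hne
    have hd : g 1 1 = 1 := by rw [ha, one_mul] at hdet; exact hdet
    ext i j; fin_cases i <;> fin_cases j <;> simp [ha, hb, hc, hd]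
  · have hd : g 1 1 = -1 := by rw [ha] at hdet; linear_combination -hdet
    ext i j; fin_cases i <;> fin_cases j <;> simp [ha, hb, hc, hd]

theorem neg_one_mem_of_gens {K : Type*} [Field K] [Finite K] (p : ℕ) [Fact p.Prime] [CharP K p]
    (hp : p ≠ 2) (Γ : Subgroup SL(2, K)) {c : K} (hc : c ≠ 0) (h1 : slU 1 ∈ Γ) (h2 : slL c ∈ Γ) :
    (-1 : SL(2, K)) ∈ Γ := by
  have h2K : (2 : K) ≠ 0 := Ring.two_ne_zero (by rw [ringChar.eq K p]; exact hp)
  have key : ∀ g : SL(2, K), (∀ n : ℕ, g ^ n = g * g ^ n * g⁻¹) := fun g n => by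
    rw [(Commute.self_pow g n).eq, mul_inv_cancel_right]
  have hpU : ∀ (S : PairRel (slU (F := K)) slL) (x : K → SL(2, K)),
      x 0 = 1 → (∀ a b, x (a + b) = x a * x b) → ∀ a, x a ^ p ^ 1 = 1 := by
    intro _ x h0 hx a
    have hn : ∀ n : ℕ, x a ^ n = x (n * a) := by
      intro n
      induction n with
      | zero => simp [h0]
      | succ n ih => rw [pow_succ, ih, ← hx]; congr 1; push_cast; ring
    rw [pow_one, hn, CharP.cast_eq_zero, zero_mul, h0]
  have S := pairRel_sl (F := K)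
  have hcard : 1 < Nat.card (Sylow p Γ) := by
    by_contra hle
    haveI : Subsingleton (Sylow p Γ) :=
      Finite.card_le_one_iff_subsingleton.1 (not_lt.1 hle)
    have hmem : ∀ g : Γ, g ^ p ^ 1 = 1 → ∀ P : Sylow p Γ, g ∈ (P : Subgroup Γ) := by
      intro g hg P
      have hgp : IsPGroup p (Subgroup.zpowers g) := by
        rintro ⟨z, hz⟩
        obtain ⟨i, rfl⟩ := Subgroup.mem_zpowers_iff.1 hz
        refine ⟨1, Subtype.ext ?_⟩
        simp only [SubmonoidClass.coe_pow, OneMemClass.coe_one]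
        rw [← zpow_natCast, ← zpow_mul, mul_comm, zpow_mul, zpow_natCast, hg, one_zpow]
      obtain ⟨P', hP'⟩ := hgp.exists_le_sylow
      rw [Subsingleton.elim P P']
      exact hP' (Subgroup.mem_zpowers g)
    obtain ⟨P⟩ := (inferInstance : Nonempty (Sylow p Γ))
    have hu := hmem ⟨slU 1, h1⟩ (Subtype.ext (hpU S slU S.x_zero S.x_add 1)) P
    have hl := hmem ⟨slL c, h2⟩ (Subtype.ext (hpU S slL S.y_zero S.y_add c)) P
    obtain ⟨k, hk⟩ := P.isPGroup' ⟨_, mul_mem hu hl⟩
    have hk' : (slU (1 : K) * slL c) ^ p ^ k = 1 := congrArg (fun z => ((z.1 : Γ) : SL(2, K))) hk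
    have htr := Classical10.entries_sum_eq_two (p := p) hk'
    simp [Matrix.SpecialLinearGroup.coe_mul, Matrix.mul_apply, Fin.sum_univ_two, coe_slU, coe_slL]
      at htr
    exact hc (by linear_combination htr)
  obtain ⟨L, hLΓ, ⟨e⟩⟩ := Classical10.exists_subgroup_equiv_SL_two_prime p hp Γ hcard
  haveI : Fact (2 < p) := ⟨lt_of_le_of_ne (Fact.out (p := p.Prime)).two_le (Ne.symm hp)⟩
  have hneg : orderOf (-1 : SL(2, ZMod p)) = 2 := by
    refine orderOf_eq_prime (by rw [neg_one_sq]) fun h => ?_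
    have h' := congrArg (fun M : SL(2, ZMod p) => M 0 0) h
    simp at h'
    exact ZMod.neg_one_ne_one h'
  have hz : orderOf ((e.symm (-1) : L) : SL(2, K)) = 2 := by
    rw [Subgroup.orderOf_coe, MulEquiv.orderOf_eq, hneg]
  rw [← sl_eq_neg_one h2K hz]
  exact hLΓ (e.symm (-1)).2

variable {φ : F →+* F} {H : Subgroup (GL D.Idx F)}
  (hD : D ∈ [chevG2, chevB2, chevD4, chevF4, chevE6, chevE7, chevE8]) (hH : RatU D φ H)
  [Fintype F] (p f : ℕ) [Fact p.Prime] [CharP F p] (hF : Fintype.card F = p ^ f)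
include hD hH hF

set_option maxHeartbeats 800000 in
theorem RatU.eq_odd (hp : p ≠ 2) {hi s : ℕ} {P : List ℕ} (hB : oddB D hi s P = true) :
    H = ratPts D φ := by
  classical
  have hU := uGood_of_mem hD
  have hC := hU.toCommGood
  have hG := hC.toGood
  simp only [oddB, Bool.and_eq_true, decide_eq_true_eq, List.all_eq_true, List.mem_range,
    List.contains_iff_mem, Bool.or_eq_true, List.isEmpty_iff] at hB
  obtain ⟨⟨⟨⟨⟨⟨⟨⟨hhi, hs⟩, hhiP⟩, hhi1⟩, hs1⟩, hs0⟩, hclosed⟩, hroots⟩, hP⟩ := hB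
  have htop : ∀ r, r < D.nroots → ht D r ≤ ht D hi := fun r hr => (hroots r hr).1
  have hnl := hG.neg_lt hhi
  refine le_antisymm (fun n hn => ⟨hH.le hn, ?_⟩) hH.rat
  by_contra hnR
  set σ := gmap D φ
  have hxR : ∀ r, xg D F r (1 : F) ∈ ratPts D φ := fun r =>
    (mem_ratPts φ).2 ⟨hG.xg_mem_group r 1, (gmap_xg φ hC r 1).trans (by rw [map_one])⟩
  have hpk : ∀ (r : ℕ) (t : F), xg D F r t ^ p ^ 1 = 1 := fun r t => by
    rw [pow_one, xg_pow hG, CharP.cast_eq_zero, zero_mul, hG.xg_zero]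
  have hne : ∀ r, r < D.nroots → ∀ t : F, t ≠ 0 → xg D F r t ≠ 1 := fun r hr t ht h =>
    ht (hG.xg_injective hr (by rw [h, hG.xg_zero]))
  set x := xg D F hi (1 : F) with hxdef
  set y := n * x * n⁻¹
  have hyH : y ∈ H := mul_mem (mul_mem hn (hH.rat (hxR hi))) (inv_mem hn)
  have hyR : ¬ σ y = y := fun h => hnR
    (hH.of_conj_mem hD p f hF (hxR hi) ⟨1, hpk _ _⟩ (hne hi hhi 1 one_ne_zero) hn h)
  have cent : ∀ v ∈ ratPts D φ, (∃ k : ℕ, v ^ p ^ k = 1) → v ≠ 1 → Commute y v → False :=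
    fun v hv hvp hv1 hc => hyR (hH.centralizer hD p f hF hv hvp hv1 hyH hc.eq)
  obtain ⟨b, hb, w, hw, -, b', hb', en⟩ := exists_bruhat_mem hD (hH.le hn)
  set β := actW D w hi with hβdef
  have hβP : β ∈ P := by
    have : ∀ w : List ℕ, (∀ i ∈ w, i < D.rank) → actW D w hi ∈ P := by
      intro w
      induction w with
      | nil => exact fun _ => hhiP
      | cons i w ih =>
        exact fun hw => hclosed i (hw i (List.mem_cons_self ..)) _
          (ih fun j hj => hw j (List.mem_cons_of_mem _ hj))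
    exact this w hw
  have hβ : β < D.nroots := (hP β hβP).1
  obtain ⟨a', ha', hb'x⟩ := borel_conj_top hU hhi hhi1 htop hb' (1 : F)
  obtain ⟨a, ha, hbx⟩ := borel_conj_top hU hhi hhi1 htop (inv_mem hb) (1 : F)
  set c : F := (etaWord D w hi : F) * (a' * 1) with hcdef
  have hc : c ≠ 0 := by
    refine mul_ne_zero (fun h0 => ?_) (mul_ne_zero ha' one_ne_zero)
    have h' : ((etaWord D w hi : ℤ) : F) * (etaWord D w hi : F) = 1 := by
      rw [← Int.cast_mul, Good.etaWord_sq, Int.cast_one]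
    rw [h0, zero_mul] at h'
    exact zero_ne_one h'
  have hy : y = b * xg D F β c * b⁻¹ := by
    rw [hcdef, ← hG.nw_conj_x hw hhi, ← hb'x]
    simp only [y, x, en]
    group
  have hx : x = b * xg D F hi (a * 1) * b⁻¹ := by rw [← hbx]; simp only [x]; group
  have hcomm : Commute (xg D F β c) (xg D F hi (a * 1)) → False := fun h =>
    cent x (hxR hi) ⟨1, hpk _ _⟩ (hne hi hhi 1 one_ne_zero) (by
      rw [hy, hx]
      exact h.map (MulAut.conj b).toMonoidHom)
  by_cases hbh : β = hi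
  · exact hcomm (by show _ * _ = _ * _; rw [hbh, ← hG.xg_add, ← hG.xg_add, add_comm])
  by_cases hbe : β = D.neg hi
  swap
  · have hterm := ((hP β hβP).2).resolve_left (by rintro (h | h) <;> [exact hbh h; exact hbe h])
    have hnot := hbe
    have hbn : β ≠ D.neg hi := hnot
    match hT : D.commTerms hi β, hterm with
    | [], _ => exact hcomm (commute_xg hC hhi hβ hbh hbn hT _ _).symm
    | [e], hterm =>
      simp only [Bool.and_eq_true, decide_eq_true_eq, List.isEmpty_iff] at hterm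
      obtain ⟨⟨⟨⟨⟨⟨he1, hT1⟩, hT2⟩, hn1⟩, hn2⟩, hn3⟩, hn4⟩ := hterm
      have hem : e ∈ commW (std D) hi β := by rw [commW_std, hT]; simp
      have hel : e.1 < D.nroots := (hG.commTerms_coef hhi hβ hem).1
      have he : ((e.2.1 : ℤ) : F) ≠ 0 := by
        rcases Int.natAbs_eq_iff.1 he1 with h | h <;> rw [h] <;> simp
      have hcom := hC.xg_comm hhi hβ hbh hbn (a * 1) c
      obtain ⟨v, hv0, hw1⟩ : ∃ v : F, v ≠ 0 ∧
          wordG D F (D.commWord F hi β (a * 1) c) = xg D F e.1 v := by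
        refine ⟨(e.2.1 : F) * (-(a * 1)) ^ e.2.2.1 * c ^ e.2.2.2, mul_ne_zero (mul_ne_zero he
          (pow_ne_zero _ (neg_ne_zero.2 (mul_ne_zero ha one_ne_zero)))) (pow_ne_zero _ hc), ?_⟩
        simp [wordG, ChevalleyDatum.commWord, hT]
      rw [hw1] at hcom
      set k := b * xg D F e.1 v * b⁻¹
      have hk : k = y⁻¹ * x⁻¹ * y * x := by
        rw [hy, hx, show (b * xg D F β c * b⁻¹)⁻¹ * (b * xg D F hi (a * 1) * b⁻¹)⁻¹ *
          (b * xg D F β c * b⁻¹) * (b * xg D F hi (a * 1) * b⁻¹) =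
          b * ((xg D F β c)⁻¹ * (xg D F hi (a * 1))⁻¹ * (xg D F β c * xg D F hi (a * 1))) * b⁻¹
          by group, hcom]
        simp only [k]
        group
      have hkH : k ∈ H := hk ▸ mul_mem (mul_mem (mul_mem (inv_mem hyH) (inv_mem (hH.rat (hxR hi))))
        hyH) (hH.rat (hxR hi))
      have hkx : Commute k x := by
        rw [hx]
        exact (commute_xg hC hhi hel hn1 hn2 hT1 _ _).symm.map (MulAut.conj b).toMonoidHom
      have hky : Commute y k := by
        rw [hy]
        exact (commute_xg hC hβ hel hn3 hn4 hT2 _ _).map (MulAut.conj b).toMonoidHom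
      have hkR : σ k = k := hH.centralizer hD p f hF (hxR hi) ⟨1, hpk _ _⟩
        (hne hi hhi 1 one_ne_zero) hkH hkx.eq
      refine cent k ⟨hH.le hkH, hkR⟩ ⟨1, by simp only [k, conj_pow, hpk, mul_one, mul_inv_cancel]⟩
        (fun h => hne e.1 hel v hv0 (conj_eq_one_iff.1 h)) hky
    | _ :: _ :: _, hterm => simp at hterm
  -- opposite roots
  obtain ⟨u, hu, h, hh, rfl⟩ := hG.mem_borel hb
  rw [hG.posUnipotent_eq] at hu
  obtain ⟨a₁, -, ha₁⟩ := hG.conj_xg_of_mem_H hh hhi
  obtain ⟨a₂, ha₂0, ha₂⟩ := hG.conj_xg_of_mem_H hh hnl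
  set d := a₂ * c
  have hd : d ≠ 0 := mul_ne_zero ha₂0 hc
  have hy' : y = u * xg D F (D.neg hi) d * u⁻¹ := by
    rw [hy, hbe, show d = a₂ * c from rfl, ← ha₂]; group
  have hux : u * x * u⁻¹ = x := by
    have h1 := hU.conj_congr (F := F) hhi1 (inv_mem hu) hhi le_rfl 1
    have hbot : XS D F (htGe D (ht D hi + 1)) = ⊥ := le_antisymm (XS_le fun s c hs hp => by
      have := htop s hs
      have hp' : ht D hi + 1 ≤ ht D s := hp
      omega) bot_le
    rw [inv_inv, hbot, Subgroup.mem_bot, mul_inv_eq_one] at h1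
    exact h1
  obtain ⟨ψ, hψU, hψL, hψr⟩ := exists_sl_hom (hG.pairRel_root (F := F) hhi)
  let f' : SL(2, F) →* GL D.Idx F := (MulAut.conj u).toMonoidHom.comp ψ
  have hf1 : f' (slU 1) = x := by
    simp only [f', MonoidHom.comp_apply, MulEquiv.coe_toMonoidHom, MulAut.conj_apply, hψU]
    exact hux
  have hf2 : f' (slL d) = y := by
    simp only [f', MonoidHom.comp_apply, MulEquiv.coe_toMonoidHom, MulAut.conj_apply, hψL]
    exact hy'.symm
  have hneg : (-1 : SL(2, F)) ∈ H.comap f' := neg_one_mem_of_gens p hp _ hd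
    (by rw [Subgroup.mem_comap, hf1]; exact hH.rat (hxR hi))
    (by rw [Subgroup.mem_comap, hf2]; exact hyH)
  set z₀ := hg D F hi (-1 : F) with hz₀
  have hψ1 : ψ (-1) = z₀ := by
    have hm : (-1 : SL(2, F)) = ph slU slL (-1) := by
      apply Subtype.ext
      rw [ph_sl (neg_ne_zero.2 one_ne_zero)]
      ext i j; fin_cases i <;> fin_cases j <;> simp [inv_neg]
    rw [hm]
    simp only [ph, pn, map_mul, hψU, hψL, hz₀, hg, ng]
  have hz : u * z₀ * u⁻¹ ∈ H := by
    rw [Subgroup.mem_comap] at hneg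
    simpa only [f', MonoidHom.comp_apply, MulEquiv.coe_toMonoidHom, MulAut.conj_apply, hψ1] using hneg
  have hzR : σ (u * z₀ * u⁻¹) = u * z₀ * u⁻¹ := by
    refine hH.centralizer hD p f hF (hxR hi) ⟨1, hpk _ _⟩ (hne hi hhi 1 one_ne_zero) hz ?_
    have hc1 : Commute (-1 : SL(2, F)) (slU 1) := by
      show _ * _ = _ * _; rw [neg_mul, one_mul, mul_neg, mul_one]
    have h2 := hc1.map f'
    rw [hf1] at h2
    have h3 : f' (-1) = u * z₀ * u⁻¹ := by
      simp only [f', MonoidHom.comp_apply, MulEquiv.coe_toMonoidHom, MulAut.conj_apply, hψ1]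
    rw [h3] at h2
    exact h2.eq
  -- the part of `u` moved by the involution
  obtain ⟨t, ht0, htu, hnd, hmem⟩ := exists_split hC hU (fun r => D.pairing hi r ≠ 0 ∧ r ≠ hi) hu
  set L1 := (posL (D := D)).filter (fun r => decide (D.pairing hi r ≠ 0 ∧ r ≠ hi))
  set L2 := (posL (D := D)).filter (fun r => decide ¬(D.pairing hi r ≠ 0 ∧ r ≠ hi))
  have hL1 : ∀ r ∈ L1, r < D.nroots ∧ 1 ≤ ht D r ∧ (D.pairing hi r).natAbs = 1 := by
    intro r hr
    obtain ⟨h1, h2⟩ := List.mem_filter.1 hr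
    obtain ⟨h3, h4⟩ := (mem_posL' hU r).1 h1
    have h5 : D.pairing hi r ≠ 0 ∧ r ≠ hi := of_decide_eq_true h2
    rcases (hroots r h3).2 with ((h6 | h6) | h6) | h6
    · omega
    · exact absurd h6 h5.2
    · exact ⟨h3, h4, h6⟩
    · exact absurd h6.1.1 h5.1
  have hL2 : ∀ r ∈ L2, r < D.nroots ∧ 1 ≤ ht D r ∧ (r = hi ∨ (D.pairing hi r = 0 ∧
      D.commTerms r hi = [] ∧ D.commTerms r (D.neg hi) = [])) := by
    intro r hr
    obtain ⟨h1, h2⟩ := List.mem_filter.1 hr
    obtain ⟨h3, h4⟩ := (mem_posL' hU r).1 h1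
    have h5 : ¬(D.pairing hi r ≠ 0 ∧ r ≠ hi) := of_decide_eq_true h2
    refine ⟨h3, h4, ?_⟩
    rcases (hroots r h3).2 with ((h6 | h6) | h6) | h6
    · omega
    · exact Or.inl h6
    · by_cases h7 : r = hi
      · exact Or.inl h7
      · exact absurd (⟨fun h8 => by simp [h8] at h6, h7⟩) h5
    · exact Or.inr ⟨h6.1.1, h6.1.2, h6.2⟩
  set p1 := prodL D F L1 t with hp1
  set p2 := prodL D F L2 t with hp2
  have hz₀x : ∀ r, r < D.nroots → ∀ v : F,
      z₀ * xg D F r v * z₀⁻¹ = xg D F r ((-1 : F) ^ D.pairing hi r * v) := fun r hr v =>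
    hG.hg_conj_x hhi hr (neg_ne_zero.2 one_ne_zero) v
  have hp2z : Commute p2 z₀ := by
    refine (Subgroup.mem_centralizer_iff.1 (show p2 ∈ Subgroup.centralizer {z₀} from
      list_prod_mem fun g hg' => ?_) z₀ rfl).symm
    obtain ⟨r, hr, rfl⟩ := List.mem_map.1 hg'
    refine Subgroup.mem_centralizer_iff.2 fun z hz' => ?_
    rw [Set.mem_singleton_iff] at hz'
    subst hz'
    have h1 := hz₀x r (hL2 r hr).1 (t r)
    have h2 : (-1 : F) ^ D.pairing hi r = 1 := by
      rcases (hL2 r hr).2.2 with h | h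
      · rw [h, hG.pairing_self hhi]; norm_num
      · rw [h.1, zpow_zero]
    rw [h2, one_mul, mul_inv_eq_iff_eq_mul] at h1
    exact h1
  have hz1 : u * z₀ * u⁻¹ = p1 * z₀ * p1⁻¹ := by
    rw [← htu, show p1 * p2 * z₀ * (p1 * p2)⁻¹ = p1 * (p2 * z₀ * p2⁻¹) * p1⁻¹ by group, hp2z.eq,
      mul_inv_cancel_right]
  have hσz₀ : σ z₀ = z₀ := by simp only [σ, hz₀, gmap_hg φ hC, map_neg, map_one]
  set e := p1⁻¹ * σ p1 with hedef
  have hez : z₀ * e * z₀⁻¹ = e := by
    rw [hz1, map_mul, map_mul, map_inv, hσz₀] at hzR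
    calc z₀ * e * z₀⁻¹ = p1⁻¹ * (p1 * z₀ * p1⁻¹) * σ p1 * z₀⁻¹ := by simp only [e]; group
      _ = p1⁻¹ * (σ p1 * z₀ * (σ p1)⁻¹) * σ p1 * z₀⁻¹ := by rw [hzR]
      _ = e := by simp only [e]; group
  have hp1U : p1 ∈ XS D F (htGe D 1) := hU.prodL_mem (fun r hr => ⟨(hL1 r hr).1, (hL1 r hr).2.1⟩) t
  have heU : e ∈ XS D F (htGe D 1) := mul_mem (inv_mem hp1U) (gmap_XS φ hC hp1U)
  obtain ⟨te, hte0, hte⟩ := hU.exists_prod hnd hmem heU
  have hscale : ∀ L : List ℕ, (∀ r ∈ L, r < D.nroots) →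
      z₀ * prodL D F L te * z₀⁻¹ = prodL D F L (fun r => (-1 : F) ^ D.pairing hi r * te r) := by
    intro L
    induction L with
    | nil => simp [prodL]
    | cons r L ih =>
      intro hL
      rw [prodL_cons, prodL_cons, ← ih fun s hs => hL s (List.mem_cons_of_mem _ hs),
        ← hz₀x r (hL r (List.mem_cons_self ..))]
      group
  have hte1 : ∀ r ∈ L1, te r = 0 := by
    intro r hr
    have h1 := hU.prodL_injective hnd hmem (t := fun r => (-1 : F) ^ D.pairing hi r * te r)
      (t' := te) (fun r hr => by simp [hte0 r hr]) hte0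
      (by rw [← hscale _ (fun r hr => ((hmem r).1 hr).1), hte, hez])
    have h2 := congrFun h1 r
    obtain ⟨-, -, h3⟩ := hL1 r hr
    have h4 : (-1 : F) ^ D.pairing hi r = -1 := by
      rcases Int.natAbs_eq_iff.1 h3 with h | h <;> rw [h] <;> simp
    rw [h4] at h2
    have h2F : (2 : F) ≠ 0 := Ring.two_ne_zero (by rw [ringChar.eq F p]; exact hp)
    exact (mul_eq_zero.1 (show (2 : F) * te r = 0 by linear_combination -h2)).resolve_left h2F
  have he2 : e = prodL D F L2 te := by
    rw [← hte, prodL, List.map_append, List.prod_append]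
    rw [show (L1.map fun r => xg D F r (te r)).prod = 1 from List.prod_eq_one fun g hg' => by
      obtain ⟨r, hr, rfl⟩ := List.mem_map.1 hg'
      rw [hte1 r hr, hG.xg_zero], one_mul]
    rfl
  -- so that part of `u` is rational
  have hp1R : σ p1 = p1 := by
    have h1 : σ p1 = prodL D F L1 (fun r => φ (t r)) := by
      simp only [σ, hp1, prodL, map_list_prod, List.map_map]
      exact congrArg List.prod (List.map_congr_left fun r _ => gmap_xg φ hC r (t r))
    let tl : ℕ → F := fun r => if r ∈ L1 then φ (t r) else 0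
    let tr : ℕ → F := fun r => if r ∈ L1 then t r else if r ∈ L2 then te r else 0
    have hdisj : ∀ r ∈ L2, r ∉ L1 := fun r h2 h1' =>
      (List.nodup_append.1 hnd).2.2 r h1' r h2 rfl
    have e1 : prodL D F (L1 ++ L2) tl = σ p1 := by
      rw [h1, prodL, List.map_append, List.prod_append, prodL]
      rw [show (L2.map fun r => xg D F r (tl r)).prod = 1 from List.prod_eq_one fun g hg' => by
        obtain ⟨r, hr, rfl⟩ := List.mem_map.1 hg'
        simp only [tl, if_neg (hdisj r hr), hG.xg_zero], mul_one]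
      exact congrArg List.prod (List.map_congr_left fun r hr => by simp only [tl, if_pos hr])
    have e2 : prodL D F (L1 ++ L2) tr = p1 * e := by
      rw [he2, hp1, prodL, List.map_append, List.prod_append, prodL, prodL]
      congr 1
      · exact congrArg List.prod (List.map_congr_left fun r hr => by simp only [tr, if_pos hr])
      · exact congrArg List.prod (List.map_congr_left fun r hr => by
          simp only [tr, if_neg (hdisj r hr), if_pos hr])
    have h0 : ∀ r, ¬ (r < D.nroots ∧ 1 ≤ ht D r) → r ∉ L1 ∧ r ∉ L2 := fun r hr =>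
      ⟨fun h => hr ((hmem r).1 (List.mem_append_left _ h)),
        fun h => hr ((hmem r).1 (List.mem_append_right _ h))⟩
    have h2 := hU.prodL_injective hnd hmem (t := tl) (t' := tr)
      (fun r hr => by simp only [tl, if_neg (h0 r hr).1])
      (fun r hr => by simp only [tr, if_neg (h0 r hr).1, if_neg (h0 r hr).2])
      (by rw [e1, e2, hedef, mul_inv_cancel_left])
    rw [h1, hp1, prodL, prodL]
    refine congrArg List.prod (List.map_congr_left fun r hr => ?_)
    have := congrFun h2 r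
    simp only [tl, tr, if_pos hr] at this
    rw [this]
  -- a rational element centralizing the pair
  have hsn : s ≠ hi := fun h => by rw [h, hG.pairing_self hhi] at hs0; omega
  obtain ⟨hsT1, hsT2⟩ : D.commTerms s hi = [] ∧ D.commTerms s (D.neg hi) = [] := by
    rcases (hroots s hs).2 with ((h6 | h6) | h6) | h6
    · omega
    · exact absurd h6 hsn
    · simp [hs0] at h6
    · exact ⟨h6.1.2, h6.2⟩
  let A := Subgroup.closure (Set.range (fun v : F => xg D F hi v) ∪
    Set.range (fun v : F => xg D F (D.neg hi) v))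
  have hcentA : ∀ r, r < D.nroots → 1 ≤ ht D r → r ≠ hi → D.commTerms r hi = [] →
      D.commTerms r (D.neg hi) = [] → ∀ v : F, ∀ g ∈ A, Commute (xg D F r v) g := by
    intro r hr hr1 hrh hT1 hT2 v g hg'
    induction hg' using Subgroup.closure_induction with
    | mem g hg'' =>
      rcases hg'' with ⟨v', rfl⟩ | ⟨v', rfl⟩
      · exact commute_xg hC hr hhi (Ne.symm hrh)
          (fun e => by rw [e, hG.ht_neg hr] at hhi1; omega) hT1 _ _
      · refine commute_xg hC hr hnl (fun e => ?_) (fun e => hrh ?_) hT2 _ _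
        · rw [← e, hG.ht_neg hhi] at hr1; omega
        · exact (hG.neg_inj hhi hr e).symm
    | one => exact Commute.one_right _
    | mul g g' _ _ h1 h2 => exact h1.mul_right h2
    | inv g _ h1 => exact h1.inv_right
  have hp2A : p2 * xg D F (D.neg hi) d * p2⁻¹ ∈ A := by
    suffices hp : p2 ∈ Subgroup.normalizer (A : Set (GL D.Idx F)) from
      (Subgroup.mem_normalizer_iff.1 hp _).1 (Subgroup.subset_closure (Or.inr ⟨d, rfl⟩))
    refine list_prod_mem fun g hg' => ?_
    obtain ⟨r, hr, rfl⟩ := List.mem_map.1 hg'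
    obtain ⟨h1, h2, h3⟩ := hL2 r hr
    rcases h3 with h3 | ⟨h3, h4, h5⟩
    · subst h3
      exact Subgroup.le_normalizer (Subgroup.subset_closure (Or.inl ⟨_, rfl⟩))
    · refine Subgroup.centralizer_le_normalizer _ (Subgroup.mem_centralizer_iff.2 fun g hg'' => ?_)
      exact (hcentA r h1 h2 (fun e => by rw [e, hG.pairing_self hhi] at h3; omega) h4 h5 _ g hg'').symm.eq
  refine cent (p1 * xg D F s 1 * p1⁻¹) ((mem_ratPts φ).2 ⟨?_, ?_⟩) ⟨1, by simp only [conj_pow, hpk, mul_one, mul_inv_cancel]⟩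
    (fun h => hne s hs 1 one_ne_zero (conj_eq_one_iff.1 h)) ?_
  · have : p1 ∈ D.group F := by rw [hG.group_eq]; exact XS_mono (fun _ _ => trivial) hp1U
    exact mul_mem (mul_mem this (hG.xg_mem_group s 1)) (inv_mem this)
  · show σ _ = _
    rw [map_mul, map_mul, map_inv, hp1R]
    simp only [σ, gmap_xg φ hC, map_one]
  · rw [hy', ← htu, show p1 * p2 * xg D F (D.neg hi) d * (p1 * p2)⁻¹ =
      p1 * (p2 * xg D F (D.neg hi) d * p2⁻¹) * p1⁻¹ by group]
    exact ((hcentA s hs hs1 hsn hsT1 hsT2 1 _ hp2A).symm).map (MulAut.conj p1).toMonoidHom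

end Cfsg.Agent.Chev34
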