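import Cfsg.Agent.Chev34.Types

/-!
The rational points form a proper subgroup.
-/

set_option autoImplicit false

namespace Cfsg.Agent.Chev34

open Cfsg.Lie Cfsg.Agent.ChevCore Cfsg.Agent.Chev54

variable {D : ChevalleyDatum} {F : Type*} [Field F] [Fintype F] {φ : F →+* F}

theorem ratPts_ne_group (hD : D ∈ [chevG2, chevB2, chevD4, chevF4, chevE6, chevE7, chevE8]) {q r : ℕ}
    (hq : 2 ≤ q) (hr : 2 ≤ r) (hφ : ∀ x, φ x = x ^ q) (hF : Fintype.card F = q ^ r) :
    ratPts D φ ≠ D.group F := by
  intro h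
  have hG := (commGood_of_mem hD).toGood
  have hfix : ∀ t : F, t ∈ φ.eqLocusField (RingHom.id F) := fun t => by
    have ht : xg D F (D.simple 0) t ∈ ratPts D φ := h ▸ hG.xg_mem_group _ t
    have := ((mem_ratPts φ).1 ht).2
    rw [gmap_xg φ (commGood_of_mem hD)] at this
    exact hG.xg_injective (hG.simple_lt hG.rank_pos) this
  have hle : Fintype.card F ≤ q := by
    rw [← card_fixed_subfield hq (by omega) hφ hF, ← Nat.card_eq_fintype_card]
    exact Nat.card_le_card_of_injective (fun t : F => (⟨t, hfix t⟩ : φ.eqLocusField (RingHom.id F)))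
      fun a b e => congrArg Subtype.val e
  rw [hF] at hle
  have : q ^ 1 < q ^ r := Nat.pow_lt_pow_right (by omega) (by omega)
  rw [pow_one] at this
  omega

end Cfsg.Agent.Chev34
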