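import Cfsg.Agent.Chev34.Generate
import Cfsg.Agent.Chev34.Odd
import Cfsg.Agent.Lib.ChevCore.SepAll

/-!
The exceptional short roots in characteristics two and three, and the long roots of type `B₂`.
-/

set_option autoImplicit false
set_option maxRecDepth 100000

namespace Cfsg.Agent.Chev34

open Cfsg.Lie Cfsg.Agent.ChevCore Cfsg.Agent.Chev54

variable {D : ChevalleyDatum} {F : Type*} [Field F] (hU : UGood D) {φ : F →+* F}
  {H : Subgroup (GL D.Idx F)}

include hU

theorem eta_ne_zero (w : List ℕ) (r : ℕ) : ((etaWord D w r : ℤ) : F) ≠ 0 := by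
  refine left_ne_zero_of_mul_eq_one (b := ((etaWord D w r : ℤ) : F)) ?_
  rw [← Int.cast_mul, Good.etaWord_sq, Int.cast_one]

/-- separating the two root elements of `central_reduce` by a Weyl element fixing the central root -/
theorem Over.central_pure (hH : Over D φ H) (p : ℕ) [CharP F p] {r0 hi : ℕ} (hhi : hi < D.nroots)
    {w : List ℕ} (hw : ∀ i ∈ w, i < D.rank) (hC0 : centralB D p r0 = true)
    (hw0 : actW D w r0 = r0) (h1 : ht D r0 < ht D (actW D w hi))
    (h2 : ht D (actW D w hi) < ht D hi) (hclean : ∀ m', ht D r0 < m' → Clean φ H m') {c d : F}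
    (h : xg D F r0 c * xg D F hi d ∈ H) : xg D F r0 c ∈ H ∧ φ d = d := by
  have hC := hU.toCommGood
  have hG := hC.toGood
  have hcomm := fun (c : F) {u} hu => central_commute (F := F) hU p hC0 c (u := u) hu
  simp only [centralB, Bool.and_eq_true, decide_eq_true_eq] at hC0
  obtain ⟨⟨⟨hr0, hr01⟩, -⟩, -⟩ := hC0
  set β := actW D w hi
  have hβ : β < D.nroots := hG.actW_lt hw hhi
  have hhiU : ∀ t : F, xg D F hi t ∈ XS D F (htGe D 1) := fun t =>
    xg_mem_XS hhi (show 1 ≤ ht D hi by omega) t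
  set e : ℤ := etaWord D w r0
  set e' : ℤ := etaWord D w hi
  have hc1 : (xg D F r0 c * xg D F hi d) ^ e = xg D F r0 ((e : F) * c) * xg D F hi ((e : F) * d) := by
    rw [(hcomm c (hhiU d)).symm.mul_zpow, hG.xg_zsmul, hG.xg_zsmul]
  have hc2 : nw D F w * (xg D F r0 c * xg D F hi d) * (nw D F w)⁻¹ =
      xg D F r0 ((e : F) * c) * xg D F β ((e' : F) * d) := by
    rw [show nw D F w * (xg D F r0 c * xg D F hi d) * (nw D F w)⁻¹ =
      (nw D F w * xg D F r0 c * (nw D F w)⁻¹) * (nw D F w * xg D F hi d * (nw D F w)⁻¹) by group,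
      hG.nw_conj_x hw hr0, hG.nw_conj_x hw hhi, hw0]
  have hz : (xg D F hi ((e : F) * d))⁻¹ * xg D F β ((e' : F) * d) ∈ H := by
    have := mul_mem (inv_mem (zpow_mem h e))
      (mul_mem (mul_mem (hH.nw_mem hC hw) h) (inv_mem (hH.nw_mem hC hw)))
    rw [hc1, hc2] at this
    simpa [mul_assoc] using this
  have hv : Vec (ht D β) ((xg D F hi ((e : F) * d))⁻¹ * xg D F β ((e' : F) * d))
      (Pi.single β ((e' : F) * d)) := by
    have := (vec_of_next hU (m := ht D β) (inv_mem (xg_mem_XS (S := htGe D (ht D β + 1)) hhi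
      (show ht D β + 1 ≤ ht D hi by omega) ((e : F) * d)))).mul hU (by omega)
        (vec_xg hU hβ (by omega) ((e' : F) * d))
    rwa [show ((fun _ : ℕ => (0 : F)) + Pi.single β ((e' : F) * d)) = Pi.single β ((e' : F) * d) from
      funext fun _ => zero_add _] at this
  have h4 := hclean (ht D β) h1 _ hz (hv.mem hU)
  have h5 := vec_gmap hU φ hv
  rw [h4] at h5
  have h6 := congrFun (h5.unique hU (by omega) hv) β
  simp only [Pi.single_eq_same, map_mul, map_intCast] at h6
  have hd : φ d = d := mul_left_cancel₀ (eta_ne_zero hU w hi) h6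
  refine ⟨?_, hd⟩
  have hdH : xg D F hi d ∈ H := fixed_mem_params hU hH hi hd
  simpa using mul_mem h (inv_mem hdH)

/-- a short root element gives the square of its parameter at the highest root -/
theorem Over.short_to_top (hH : Over D φ H) {r0 hi a b : ℕ} {wa wb w1 w2 : List ℕ} {e1 e2 : ℤ}
    (hr0 : r0 < D.nroots) (hhi : hi < D.nroots)
    (hwa : ∀ i ∈ wa, i < D.rank) (hwb : ∀ i ∈ wb, i < D.rank) (hw1 : ∀ i ∈ w1, i < D.rank)
    (hw2 : ∀ i ∈ w2, i < D.rank) (ha : actW D wa r0 = a) (hb : actW D wb hi = b) (hne : b ≠ a)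
    (hne' : b ≠ D.neg a)
    (hT : D.commTerms a b = [(actW D w1 r0, e1, 1, 1), (actW D w2 hi, e2, 2, 1)])
    (he2 : e2.natAbs = 1) {c : F} (h : xg D F r0 c ∈ H) : xg D F hi (c ^ 2) ∈ H := by
  have hC := hU.toCommGood
  have hG := hC.toGood
  have hxa : xg D F a c ∈ H := ha ▸ hH.move hU hr0 hwa c h
  have hxb : xg D F b (1 : F) ∈ H := hH.xg_one hC b
  have hal : a < D.nroots := ha ▸ hG.actW_lt hwa hr0
  have hbl : b < D.nroots := hb ▸ hG.actW_lt hwb hhi
  have hcom := hC.xg_comm hal hbl hne hne' c (1 : F)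
  have hW : wordG D F (D.commWord F a b c 1) =
      xg D F (actW D w1 r0) ((e1 : F) * (-c)) * xg D F (actW D w2 hi) ((e2 : F) * c ^ 2) := by
    simp [wordG, ChevalleyDatum.commWord, hT]
  have hWH : wordG D F (D.commWord F a b c 1) ∈ H := by
    rw [show wordG D F (D.commWord F a b c 1) =
      (xg D F a c * xg D F b 1)⁻¹ * (xg D F b 1 * xg D F a c) by rw [hcom]; group]
    exact mul_mem (inv_mem (mul_mem hxa hxb)) (mul_mem hxb hxa)
  have h1 : xg D F (actW D w1 r0) ((e1 : F) * (-c)) ∈ H := by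
    rw [hG.xg_zsmul]
    exact zpow_mem (by rw [← hG.xg_inv]; exact inv_mem (hH.move hU hr0 hw1 c h)) _
  rw [hW] at hWH
  have h2 : (e2 : F) * c ^ 2 ∈ params hU H hi :=
    hH.move_back hU hhi hw2 _ (by simpa using mul_mem (inv_mem h1) hWH)
  rcases Int.natAbs_eq_iff.1 he2 with h | h <;> rw [h] at h2
  · exact (mem_params hU).1 (by simpa using h2)
  · exact (mem_params hU).1 (by simpa [neg_mem_iff] using h2)

omit hU in
theorem frob_fix_pow (p : ℕ) [Fact p.Prime] [CharP F p] {c : F} (h : φ (c ^ p) = c ^ p) : φ c = c := by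
  rw [map_pow] at h
  exact frobenius_inj F p h

end Cfsg.Agent.Chev34

namespace Cfsg.Agent.Chev34

open Cfsg.Lie Cfsg.Agent.ChevCore Cfsg.Agent.Chev54

variable {F : Type*} [Field F] {φ : F →+* F}

/-- type `F₄` in characteristic two -/
theorem special_F4 [CharP F 2] {H : Subgroup (GL chevF4.Idx F)} (hH : Over chevF4 φ H)
    (hclean : ∀ m', ht chevF4 44 < m' → Clean φ H m') {c d : F}
    (h : xg chevF4 F 44 c * xg chevF4 F 47 d ∈ H) : φ c = c := by
  haveI : Fact (Nat.Prime 2) := ⟨Nat.prime_two⟩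
  have hU := uGoodF4
  obtain ⟨h0, -⟩ := hH.central_pure hU 2 (hi := 47) (w := [3]) (by decide) (by decide)
    (by decide +kernel) (by decide +kernel) (by decide +kernel) (by decide +kernel) hclean h
  have h1 := hH.short_to_top hU (r0 := 44) (hi := 47) (a := 27) (b := 25)
    (wa := [2, 3, 0, 1, 2, 1, 0]) (wb := [3, 1, 2, 0, 1, 2, 3]) (w1 := [3, 0, 1, 2, 1, 0])
    (w2 := [3, 2, 0, 1, 2, 3]) (e1 := -1) (e2 := -1) (by decide) (by decide) (by decide) (by decide)
    (by decide) (by decide) (by decide +kernel) (by decide +kernel) (by decide +kernel)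
    (by decide +kernel) (by decide +kernel) rfl h0
  exact frob_fix_pow 2 ((gmap_xg φ hU.toCommGood 47 (c ^ 2)).symm.trans
    (hclean (ht chevF4 47) (by decide +kernel) _ h1 (xg_mem_XS (by decide) (show
      ht chevF4 47 ≤ ht chevF4 47 from le_rfl) _)) |> hU.toCommGood.toGood.xg_injective (by decide))

/-- type `G₂` in characteristic three -/
theorem special_G2 [CharP F 3] {H : Subgroup (GL chevG2.Idx F)} (hH : Over chevG2 φ H)
    (hclean : ∀ m', ht chevG2 9 < m' → Clean φ H m') {c d : F}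
    (h : xg chevG2 F 9 c * xg chevG2 F 11 d ∈ H) : φ c = c := by
  haveI : Fact (Nat.Prime 3) := ⟨Nat.prime_three⟩
  have hU := uGoodG2
  have hC := hU.toCommGood
  have hG := hC.toGood
  have hcen : centralB chevG2 3 9 = true := by decide +kernel
  obtain ⟨h0, -⟩ := hH.central_pure hU 3 (hi := 11) (w := [1]) (by decide) (by decide)
    hcen (by decide +kernel) (by decide +kernel) (by decide +kernel) hclean h
  have h7 : xg chevG2 F 7 c ∈ H := by
    have := hH.move hU (by decide : 9 < chevG2.nroots) (w := [1, 0]) (by decide) c h0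
    rwa [show actW chevG2 [1, 0] 9 = 7 by decide +kernel] at this
  have h8 : ∀ t : F, t ∈ params hU H 9 → xg chevG2 F 8 t ∈ H := fun t ht => by
    have := hH.move hU (by decide : 9 < chevG2.nroots) (w := [0]) (by decide) t ht
    rwa [show actW chevG2 [0] 9 = 8 by decide +kernel] at this
  have h6 : xg chevG2 F 6 (1 : F) ∈ H := hH.xg_one hC 6
  have hcom := hC.xg_comm (r := 7) (s := 6) (by decide) (by decide) (by decide) (by decide +kernel) c (1 : F)
  have hT : chevG2.commTerms 7 6 = [(8, -1, 1, 1), (9, 1, 2, 1), (10, 1, 3, 1), (11, 1, 3, 2)] := by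
    decide +kernel
  have hW : wordG chevG2 F (chevG2.commWord F 7 6 c 1) =
      xg chevG2 F 8 c * (xg chevG2 F 9 (c ^ 2) * (xg chevG2 F 10 ((-c) ^ 3) * xg chevG2 F 11 ((-c) ^ 3))) := by
    simp [wordG, ChevalleyDatum.commWord, hT]
  have hv : xg chevG2 F 9 (c ^ 2) * (xg chevG2 F 10 ((-c) ^ 3) * xg chevG2 F 11 ((-c) ^ 3)) ∈ H := by
    have hWH : wordG chevG2 F (chevG2.commWord F 7 6 c 1) ∈ H := by
      rw [show wordG chevG2 F (chevG2.commWord F 7 6 c 1) =
        (xg chevG2 F 7 c * xg chevG2 F 6 1)⁻¹ * (xg chevG2 F 6 1 * xg chevG2 F 7 c) by rw [hcom]; group]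
      exact mul_mem (inv_mem (mul_mem h7 h6)) (mul_mem h6 h7)
    rw [hW] at hWH
    simpa using mul_mem (inv_mem (h8 c h0)) hWH
  have h10 : (1 : ℤ) ≤ ht chevG2 10 := by decide +kernel
  have hvec : Vec (ht chevG2 10) (xg chevG2 F 10 ((-c) ^ 3) * xg chevG2 F 11 ((-c) ^ 3))
      (Pi.single 10 ((-c) ^ 3)) := by
    have := (vec_xg hU (by decide : 10 < chevG2.nroots) h10 ((-c) ^ 3)).mul hU h10
      (vec_of_next hU (xg_mem_XS (S := htGe chevG2 (ht chevG2 10 + 1)) (by decide : 11 < chevG2.nroots)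
        (show ht chevG2 10 + 1 ≤ ht chevG2 11 by decide +kernel) ((-c) ^ 3)))
    rwa [show (Pi.single 10 ((-c) ^ 3) + fun _ : ℕ => (0 : F)) = Pi.single 10 ((-c) ^ 3) from
      funext fun _ => add_zero _] at this
  have h61 : 1 ≤ ht chevG2 6 := by decide +kernel
  have hcF : ((commCoef chevG2 6 10 11 : ℤ) : F) ≠ 0 := by
    rw [show commCoef chevG2 6 10 11 = 1 by decide +kernel]; simp
  have h90 : 1 ≤ ht chevG2 9 := by decide +kernel
  have h910 : ht chevG2 9 < ht chevG2 10 := by decide +kernel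
  have hfix := hH.rational_coord hU (s := 6) (r := 10) (c := 11) (by decide) h61 (by decide) h10 rfl
    (by decide) (by decide +kernel) (by decide +kernel) hcF
    (fun m' hm' => hclean m' (by omega)) (xg_mem_XS (by decide) h90 _)
    (central_commute (F := F) hU 3 hcen (c ^ 2) (xg_mem_XS (by decide) h61 1)).eq hvec hv
  rw [Pi.single_eq_same, neg_pow, map_mul, map_pow, map_neg, map_one] at hfix
  exact frob_fix_pow 3 (mul_left_cancel₀ (pow_ne_zero _ (neg_ne_zero.2 one_ne_zero)) hfix)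

section B2

variable {H : Subgroup (GL chevB2.Idx F)}

theorem b2_comm_word {t u : F} (ht : xg chevB2 F 5 t ∈ H) (hu : xg chevB2 F 4 u ∈ H) :
    xg chevB2 F 6 (t * u) * xg chevB2 F 7 (-(t ^ 2 * u)) ∈ H := by
  have hC := uGoodB2.toCommGood
  have hcom := hC.xg_comm (r := 5) (s := 4) (by decide) (by decide) (by decide) (by decide +kernel) t u
  have hT : chevB2.commTerms 5 4 = [(6, -1, 1, 1), (7, -1, 2, 1)] := by decide +kernel
  have hW : wordG chevB2 F (chevB2.commWord F 5 4 t u) =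
      xg chevB2 F 6 (t * u) * xg chevB2 F 7 (-(t ^ 2 * u)) := by
    simp [wordG, ChevalleyDatum.commWord, hT]
  rw [← hW, show wordG chevB2 F (chevB2.commWord F 5 4 t u) =
    (xg chevB2 F 5 t * xg chevB2 F 4 u)⁻¹ * (xg chevB2 F 4 u * xg chevB2 F 5 t) by rw [hcom]; group]
  exact mul_mem (inv_mem (mul_mem ht hu)) (mul_mem hu ht)

theorem b2_commute {r s : ℕ} (hr : r < chevB2.nroots) (hs : s < chevB2.nroots) (h1 : s ≠ r)
    (h2 : s ≠ chevB2.neg r) (hT : chevB2.commTerms r s = []) (t u : F) :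
    Commute (xg chevB2 F r t) (xg chevB2 F s u) :=
  commute_xg uGoodB2.toCommGood hr hs h1 h2 hT t u

theorem b2_commute_two [CharP F 2] (t u : F) : Commute (xg chevB2 F 5 t) (xg chevB2 F 6 u) := by
  have e := uGoodB2.toCommGood.xg_comm (r := 5) (s := 6) (by decide) (by decide) (by decide)
    (by decide +kernel) t u
  have hT : chevB2.commTerms 5 6 = [(7, 2, 1, 1)] := by decide +kernel
  rw [show wordG chevB2 F (chevB2.commWord F 5 6 t u) = 1 by
    simp [wordG, ChevalleyDatum.commWord, hT, show (2 : F) = 0 from CharTwo.two_eq_zero,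
      uGoodB2.toCommGood.toGood.xg_zero], mul_one] at e
  exact e.symm

theorem b2_nw [CharP F 2] {w : List ℕ} (hw : ∀ i ∈ w, i < chevB2.rank) {r : ℕ} (hr : r < chevB2.nroots)
    (t : F) : nw chevB2 F w * xg chevB2 F r t * (nw chevB2 F w)⁻¹ = xg chevB2 F (actW chevB2 w r) t := by
  rw [uGoodB2.toCommGood.toGood.nw_conj_x hw hr]
  congr 1
  have h := Good.etaWord_sq (D := chevB2) w r
  rcases (Int.mul_eq_one_iff_eq_one_or_neg_one.1 h) with ⟨h', -⟩ | ⟨h', -⟩ <;>
    simp [h', CharTwo.neg_eq]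

/-- a pair at the short and long highest roots, moved to the two long roots -/
theorem b2_pair [CharP F 2] (hH : Over chevB2 φ H) {X Y : F}
    (h : xg chevB2 F 6 X * xg chevB2 F 7 Y ∈ H) : xg chevB2 F 6 Y * xg chevB2 F 7 Y ∈ H := by
  have hC := uGoodB2.toCommGood
  have hG := hC.toGood
  have hn : nw chevB2 F [0] ∈ H := hH.nw_mem hC (by decide)
  have h2 : xg chevB2 F 6 X * xg chevB2 F 4 Y ∈ H := by
    have := mul_mem (mul_mem hn h) (inv_mem hn)
    rwa [show nw chevB2 F [0] * (xg chevB2 F 6 X * xg chevB2 F 7 Y) * (nw chevB2 F [0])⁻¹ =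
      (nw chevB2 F [0] * xg chevB2 F 6 X * (nw chevB2 F [0])⁻¹) *
        (nw chevB2 F [0] * xg chevB2 F 7 Y * (nw chevB2 F [0])⁻¹) by group,
      b2_nw (by decide) (by decide), b2_nw (by decide) (by decide),
      show actW chevB2 [0] 6 = 6 by decide +kernel, show actW chevB2 [0] 7 = 4 by decide +kernel] at this
  have h3 : xg chevB2 F 4 Y * xg chevB2 F 7 Y ∈ H := by
    have := mul_mem (inv_mem h2) h
    rw [show (xg chevB2 F 6 X * xg chevB2 F 4 Y)⁻¹ * (xg chevB2 F 6 X * xg chevB2 F 7 Y) =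
      (xg chevB2 F 4 Y)⁻¹ * xg chevB2 F 7 Y by group, hG.xg_inv, CharTwo.neg_eq] at this
    exact this
  have h5 : xg chevB2 F 5 (1 : F) ∈ H := hH.xg_one hC 5
  have h7 : Commute (xg chevB2 F 5 (1 : F)) (xg chevB2 F 7 Y) :=
    b2_commute (by decide) (by decide) (by decide) (by decide +kernel) (by decide +kernel) _ _
  have hK := mul_mem (inv_mem (mul_mem h5 h3)) (mul_mem h3 h5)
  have hcom := hC.xg_comm (r := 5) (s := 4) (by decide) (by decide) (by decide) (by decide +kernel)
    (1 : F) Y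
  have hT : chevB2.commTerms 5 4 = [(6, -1, 1, 1), (7, -1, 2, 1)] := by decide +kernel
  have hW : wordG chevB2 F (chevB2.commWord F 5 4 (1 : F) Y) =
      xg chevB2 F 6 Y * xg chevB2 F 7 Y := by
    simp [wordG, ChevalleyDatum.commWord, hT, CharTwo.neg_eq]
  have h6 : Commute (xg chevB2 F 6 Y * xg chevB2 F 7 Y) (xg chevB2 F 7 Y) :=
    (b2_commute (by decide) (by decide) (by decide) (by decide +kernel) (by decide +kernel) _ _).mul_left
      (Commute.refl _)
  rw [hW] at hcom
  rw [show (xg chevB2 F 5 1 * (xg chevB2 F 4 Y * xg chevB2 F 7 Y))⁻¹ *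
      (xg chevB2 F 4 Y * xg chevB2 F 7 Y * xg chevB2 F 5 1) =
      (xg chevB2 F 7 Y)⁻¹ * ((xg chevB2 F 5 1 * xg chevB2 F 4 Y)⁻¹ *
        (xg chevB2 F 4 Y * (xg chevB2 F 7 Y * xg chevB2 F 5 1))) by group, ← h7.eq,
    show xg chevB2 F 4 Y * (xg chevB2 F 5 1 * xg chevB2 F 7 Y) =
      xg chevB2 F 4 Y * xg chevB2 F 5 1 * xg chevB2 F 7 Y by group, hcom,
    show (xg chevB2 F 7 Y)⁻¹ * ((xg chevB2 F 5 1 * xg chevB2 F 4 Y)⁻¹ *
      (xg chevB2 F 5 1 * xg chevB2 F 4 Y * (xg chevB2 F 6 Y * xg chevB2 F 7 Y) * xg chevB2 F 7 Y)) =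
      (xg chevB2 F 7 Y)⁻¹ * ((xg chevB2 F 6 Y * xg chevB2 F 7 Y) * xg chevB2 F 7 Y) by group,
    h6.eq, inv_mul_cancel_left] at hK
  exact hK

/-- type `B₂` in characteristic two -/
theorem special_B2 [CharP F 2] (hH : Over chevB2 φ H)
    (hclean : ∀ t : F, xg chevB2 F 7 t ∈ H → φ t = t) {c d : F}
    (h : xg chevB2 F 6 c * xg chevB2 F 7 d ∈ H) : φ c = c := by
  haveI : Fact (Nat.Prime 2) := ⟨Nat.prime_two⟩
  have hC := uGoodB2.toCommGood
  have hG := hC.toGood
  have hn0 : nw chevB2 F [0] ∈ H := hH.nw_mem hC (by decide)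
  have hn1 : nw chevB2 F [1] ∈ H := hH.nw_mem hC (by decide)
  have c67 : ∀ X Y : F, Commute (xg chevB2 F 6 X) (xg chevB2 F 7 Y) := fun X Y =>
    b2_commute (by decide) (by decide) (by decide) (by decide +kernel) (by decide +kernel) X Y
  have shift : ∀ X Y, xg chevB2 F 6 X * xg chevB2 F 7 Y ∈ H → xg chevB2 F 5 X * xg chevB2 F 7 Y ∈ H := by
    intro X Y h
    have := mul_mem (mul_mem hn1 h) (inv_mem hn1)
    rwa [show nw chevB2 F [1] * (xg chevB2 F 6 X * xg chevB2 F 7 Y) * (nw chevB2 F [1])⁻¹ =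
      (nw chevB2 F [1] * xg chevB2 F 6 X * (nw chevB2 F [1])⁻¹) *
        (nw chevB2 F [1] * xg chevB2 F 7 Y * (nw chevB2 F [1])⁻¹) by group,
      b2_nw (by decide) (by decide), b2_nw (by decide) (by decide),
      show actW chevB2 [1] 6 = 5 by decide +kernel, show actW chevB2 [1] 7 = 7 by decide +kernel] at this
  have hT : chevB2.commTerms 5 4 = [(6, -1, 1, 1), (7, -1, 2, 1)] := by decide +kernel
  have comm : ∀ X Y U : F, xg chevB2 F 5 X * xg chevB2 F 7 Y ∈ H → ∀ z ∈ H,
      (∃ V : F, z = xg chevB2 F 6 V * xg chevB2 F 4 U) →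
      xg chevB2 F 6 (X * U) * xg chevB2 F 7 (X ^ 2 * U) ∈ H := by
    rintro X Y U hXY z hz ⟨V, rfl⟩
    have hcom := hC.xg_comm (r := 5) (s := 4) (by decide) (by decide) (by decide) (by decide +kernel) X U
    have hW : wordG chevB2 F (chevB2.commWord F 5 4 X U) =
        xg chevB2 F 6 (X * U) * xg chevB2 F 7 (X ^ 2 * U) := by
      simp [wordG, ChevalleyDatum.commWord, hT, CharTwo.neg_eq]
    rw [hW] at hcom
    set a := xg chevB2 F 5 X with ha
    set b := xg chevB2 F 4 U with hb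
    set v := xg chevB2 F 6 V with hv
    set s := xg chevB2 F 7 Y with hs
    have e1 : Commute a v := b2_commute_two X V
    have e2 : Commute s v := (c67 V Y).symm
    have e3 : Commute s b := (b2_commute (by decide) (by decide) (by decide) (by decide +kernel)
      (by decide +kernel) U Y).symm
    have e4 : Commute s a := (b2_commute (by decide) (by decide) (by decide) (by decide +kernel)
      (by decide +kernel) X Y).symm
    have hsv : Commute s (v * b) := e2.mul_right e3
    have key : ((a * s) * (v * b))⁻¹ * ((v * b) * (a * s)) =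
        xg chevB2 F 6 (X * U) * xg chevB2 F 7 (X ^ 2 * U) := by
      calc ((a * s) * (v * b))⁻¹ * ((v * b) * (a * s))
          = (a * ((s * (v * b)) ))⁻¹ * (v * b * a * s) := by group
        _ = (a * ((v * b) * s))⁻¹ * (v * b * a * s) := by rw [hsv.eq]
        _ = s⁻¹ * ((a * v * b)⁻¹ * (v * b * a)) * s := by group
        _ = s⁻¹ * ((v * a * b)⁻¹ * (v * b * a)) * s := by rw [e1.eq]
        _ = s⁻¹ * ((a * b)⁻¹ * (b * a)) * s := by group
        _ = s⁻¹ * (xg chevB2 F 6 (X * U) * xg chevB2 F 7 (X ^ 2 * U)) * s := by rw [hcom]; group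
        _ = _ := by
          have h67 : Commute (xg chevB2 F 6 (X * U) * xg chevB2 F 7 (X ^ 2 * U)) s :=
            (c67 _ _).mul_left (show Commute _ _ by
              show _ * _ = _ * _
              rw [← hG.xg_add, ← hG.xg_add, add_comm])
          rw [mul_assoc, h67.eq, inv_mul_cancel_left]
    exact key ▸ mul_mem (inv_mem (mul_mem hXY hz)) (mul_mem hz hXY)
  have rule : ∀ X Y, xg chevB2 F 6 X * xg chevB2 F 7 Y ∈ H → φ (Y + X ^ 2) = Y + X ^ 2 := by
    intro X Y h
    have h1 := comm X Y 1 (shift X Y h) (xg chevB2 F 4 (1 : F)) (hH.xg_one hC 4)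
      ⟨0, by rw [hG.xg_zero, one_mul]⟩
    rw [mul_one, mul_one] at h1
    refine hclean _ ?_
    have := mul_mem (inv_mem h) h1
    rw [show (xg chevB2 F 6 X * xg chevB2 F 7 Y)⁻¹ * (xg chevB2 F 6 X * xg chevB2 F 7 (X ^ 2)) =
      (xg chevB2 F 7 Y)⁻¹ * xg chevB2 F 7 (X ^ 2) by group, hG.xg_inv, ← hG.xg_add, CharTwo.neg_eq]
      at this
    exact this
  have h1 : xg chevB2 F 6 c * xg chevB2 F 7 (c ^ 2) ∈ H := by
    have e := rule c d h
    have := mul_mem h (fixed_mem_params uGoodB2 hH 7 e)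
    rwa [mul_assoc, ← hG.xg_add, ← add_assoc, CharTwo.add_self_eq_zero, zero_add] at this
  have h2 := rule _ _ (b2_pair hH h1)
  have h3 : xg chevB2 F 6 c * xg chevB2 F 4 (c ^ 2) ∈ H := by
    have := mul_mem (mul_mem hn0 h1) (inv_mem hn0)
    rwa [show nw chevB2 F [0] * (xg chevB2 F 6 c * xg chevB2 F 7 (c ^ 2)) * (nw chevB2 F [0])⁻¹ =
      (nw chevB2 F [0] * xg chevB2 F 6 c * (nw chevB2 F [0])⁻¹) *
        (nw chevB2 F [0] * xg chevB2 F 7 (c ^ 2) * (nw chevB2 F [0])⁻¹) by group,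
      b2_nw (by decide) (by decide), b2_nw (by decide) (by decide),
      show actW chevB2 [0] 6 = 6 by decide +kernel, show actW chevB2 [0] 7 = 4 by decide +kernel] at this
  have h4 := rule _ _ (comm c (c ^ 2) (c ^ 2) (shift _ _ h1) _ h3 ⟨c, rfl⟩)
  refine frob_fix_pow 2 ?_
  set w := c ^ 2 with hw
  set e := w + w ^ 2 with he
  have h4' : φ (w * e) = w * e := by
    have e1 : c ^ 2 * w + (c * w) ^ 2 = w * e := by rw [he, hw]; ring
    rwa [e1] at h4
  rcases eq_or_ne e 0 with h0 | h0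
  · have hwe : w * (1 + w) = 0 := by rw [← h0, he]; ring
    rcases mul_eq_zero.1 hwe with h5 | h5
    · rw [h5, map_zero]
    · have : w = 1 := by rw [eq_neg_of_add_eq_zero_right h5, CharTwo.neg_eq]
      rw [this, map_one]
  · rw [map_mul, h2] at h4'
    exact mul_right_cancel₀ h0 h4'

/-- an irrational long root parameter generates all of them in type `B₂` -/
theorem Over.b2_top_all [Fintype F] (p : ℕ) [Fact p.Prime] [CharP F p] (hH : Over chevB2 φ H)
    {a r : ℕ} (ha : 1 ≤ a) (hr : r.Prime) (hφ : ∀ x, φ x = x ^ p ^ a)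
    (hF : Fintype.card F = (p ^ a) ^ r) {c : F} (hc : xg chevB2 F 7 c ∈ H) (hcφ : φ c ≠ c) (t : F) :
    xg chevB2 F 7 t ∈ H := by
  classical
  have hU := uGoodB2
  have hC := hU.toCommGood
  have hG := hC.toGood
  have hq : 2 ≤ p ^ a := le_trans (Fact.out (p := p.Prime)).two_le (Nat.le_self_pow (by omega) p)
  set A := params hU H 7 with hA
  set B := params hU H 6 with hB
  have hcA : c ∈ A := hc
  have to4 : ∀ u, u ∈ A → xg chevB2 F 4 u ∈ H := fun u hu => by
    have := hH.move hU (by decide : 7 < chevB2.nroots) (w := [0]) (by decide) u hu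
    rwa [show actW chevB2 [0] 7 = 4 by decide +kernel] at this
  have to5 : ∀ u, u ∈ B → xg chevB2 F 5 u ∈ H := fun u hu => by
    have := hH.move hU (by decide : 6 < chevB2.nroots) (w := [1]) (by decide) u hu
    rwa [show actW chevB2 [1] 6 = 5 by decide +kernel] at this
  have hone : ∀ r, (1 : F) ∈ params hU H r := fun r => fixed_mem_params hU hH r (map_one φ)
  have hAB : ∀ u ∈ A, u ∈ B := fun u hu => by
    have h := b2_comm_word (to5 1 (hone 6)) (to4 u hu)
    rw [one_mul, one_pow, one_mul] at h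
    have := mul_mem h (neg_neg u ▸ neg_mem (neg_mem hu) : u ∈ A)
    rwa [mul_assoc, ← hG.xg_add, neg_add_cancel, hG.xg_zero, mul_one] at this
  have hBA : ∀ u ∈ B, u ^ 2 ∈ A := fun u hu => by
    have h := b2_comm_word (to5 u hu) (to4 1 (hone 7))
    rw [mul_one, mul_one] at h
    have := mul_mem (inv_mem (show xg chevB2 F 6 u ∈ H from hu)) h
    rw [inv_mul_cancel_left] at this
    exact neg_mem_iff.1 (show -(u ^ 2) ∈ A from this)
  rcases eq_or_ne p 2 with hp2 | hp2
  swap
  · -- odd characteristic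
    have hprod : ∀ x ∈ B, ∀ y ∈ B, x * y ∈ A := by
      intro x hx y hy
      have hcom := hC.xg_comm (r := 5) (s := 6) (by decide) (by decide) (by decide) (by decide +kernel) x y
      have hT : chevB2.commTerms 5 6 = [(7, 2, 1, 1)] := by decide +kernel
      have hW : wordG chevB2 F (chevB2.commWord F 5 6 x y) = xg chevB2 F 7 (-(2 * (x * y))) := by
        simp [wordG, ChevalleyDatum.commWord, hT, mul_assoc]
      have h5 := to5 x hx
      have h6 : xg chevB2 F 6 y ∈ H := hy
      have h7 : xg chevB2 F 7 (-(2 * (x * y))) ∈ H := by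
        rw [← hW, show wordG chevB2 F (chevB2.commWord F 5 6 x y) =
          (xg chevB2 F 5 x * xg chevB2 F 6 y)⁻¹ * (xg chevB2 F 6 y * xg chevB2 F 5 x) by rw [hcom]; group]
        exact mul_mem (inv_mem (mul_mem h5 h6)) (mul_mem h6 h5)
      have h8 : 2 * (x * y) ∈ A := neg_mem_iff.1 (show -(2 * (x * y)) ∈ A from h7)
      obtain ⟨n, hn⟩ : ∃ n : ℕ, (n : F) * 2 = 1 := by
        refine ⟨(p + 1) / 2, ?_⟩
        have hodd : (p + 1) / 2 * 2 = p + 1 := by
          have := (Fact.out (p := p.Prime)).eq_two_or_odd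
          omega
        have := congrArg (fun m : ℕ => (m : F)) hodd
        push_cast at this
        rw [this, CharP.cast_eq_zero, zero_add]
      have := A.nsmul_mem h8 n
      rwa [nsmul_eq_mul, ← mul_assoc, hn, one_mul] at this
    have hall : ∀ x, x ∈ B := eq_top_of_mul_closed hq hr hφ hF (A := (B : Set F))
      (fun x hx y hy => add_mem hx hy) (fun x hx y hy => hAB _ (hprod x hx y hy))
      (fun x hx => fixed_mem_params hU hH 6 hx) (hAB c hcA) hcφ
    have := hprod t (hall t) 1 (hone 6)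
    rwa [mul_one] at this
  subst hp2
  have hsq_inj : Function.Injective (fun x : F => x ^ 2) := frobenius_inj F 2
  have hBsub : ∀ u ∈ B, u ∈ A := by
    intro u hu
    have hcard : ((A : Set F).toFinite.toFinset.image fun x => x ^ 2) = (A : Set F).toFinite.toFinset := by
      refine Finset.eq_of_subset_of_card_le (fun x hx => ?_) ?_
      · obtain ⟨y, hy, rfl⟩ := Finset.mem_image.1 hx
        rw [Set.Finite.mem_toFinset] at hy ⊢
        exact hBA y (hAB y hy)
      · rw [Finset.card_image_of_injective _ hsq_inj]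
    have h2 : u ^ 2 ∈ (A : Set F).toFinite.toFinset := by
      rw [Set.Finite.mem_toFinset]; exact hBA u hu
    rw [← hcard, Finset.mem_image] at h2
    obtain ⟨y, hy, e⟩ := h2
    rw [Set.Finite.mem_toFinset] at hy
    exact hsq_inj e ▸ hy
  rcases hr.eq_two_or_odd' with h2 | hodd
  · subst h2
    have hsmul : ∀ b, φ b = b → ∀ x ∈ B, b * x ∈ B := by
      intro b hb x hx
      rcases eq_or_ne b 0 with hb0 | hb0
      · rw [hb0, zero_mul]; exact B.zero_mem
      have h56 : chevB2.pairing 4 6 = 1 ∨ chevB2.pairing 4 6 = -1 := by decide +kernel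
      obtain ⟨u, hu0, huf, hu⟩ : ∃ u : F, u ≠ 0 ∧ φ u = u ∧ u ^ chevB2.pairing 4 6 = b := by
        rcases h56 with h | h
        · exact ⟨b, hb0, hb, by rw [h, zpow_one]⟩
        · exact ⟨b⁻¹, inv_ne_zero hb0, by rw [map_inv₀, hb], by rw [h, zpow_neg_one, inv_inv]⟩
      have hh : hg chevB2 F 4 u ∈ H :=
        hH.rat _ (hG.hg_mem_group 4 u) (by rw [gmap_hg φ hC, huf])
      have e := hG.hg_conj_x (by decide : 4 < chevB2.nroots) (by decide : 6 < chevB2.nroots) hu0 x
      rw [hu] at e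
      show xg chevB2 F 6 (b * x) ∈ H
      exact e ▸ mul_mem (mul_mem hh hx) (inv_mem hh)
    exact hBsub t (eq_top_of_smul_closed hq hφ hF (A := (B : Set F)) (fun x hx y hy => add_mem hx hy)
      hsmul (fun x hx => fixed_mem_params hU hH 6 hx) (hAB c hcA) hcφ t)
  · have pairA : ∀ x ∈ A, ∀ y ∈ A, x * y + x ^ 2 * y ∈ A := by
      intro x hx y hy
      have h := b2_comm_word (to5 x (hAB x hx)) (to4 y hy)
      rw [CharTwo.neg_eq] at h
      have h2 := b2_pair hH h
      have h3 := mul_mem h (inv_mem h2)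
      rw [show xg chevB2 F 6 (x * y) * xg chevB2 F 7 (x ^ 2 * y) *
          (xg chevB2 F 6 (x ^ 2 * y) * xg chevB2 F 7 (x ^ 2 * y))⁻¹ =
        xg chevB2 F 6 (x * y) * (xg chevB2 F 6 (x ^ 2 * y))⁻¹ by group, hG.xg_inv, ← hG.xg_add,
        CharTwo.neg_eq] at h3
      exact hBsub _ h3
    have hmul : ∀ x ∈ A, ∀ y ∈ A, x * y ∈ A := by
      intro x hx y hy
      refine mem_of_sq_mod rfl hodd hφ hF (fun z hz => fixed_mem_params hU hH 7 hz)
        (fun z hz => hBA z (hAB z hz)) ?_
      have h1 := pairA y hy x hx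
      have h2 := pairA x hx (y ^ 2) (hBA y (hAB y hy))
      have h3 := A.add_mem h1 h2
      have h22 : x * y ^ 2 + x * y ^ 2 = 0 := CharTwo.add_self_eq_zero _
      rwa [show y * x + y ^ 2 * x + (x * y ^ 2 + x ^ 2 * y ^ 2) = (x * y) ^ 2 + x * y by
        linear_combination h22] at h3
    exact eq_top_of_mul_closed hq hr hφ hF (A := (A : Set F)) (fun x hx y hy => add_mem hx hy) hmul
      (fun x hx => fixed_mem_params hU hH 7 hx) hcA hcφ t

end B2

end Cfsg.Agent.Chev34
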