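import Cfsg.Agent.Chev34.Special
import Cfsg.Agent.Chev54.InvClasses
import Cfsg.Agent.Chev54.InvRankD4
import Cfsg.Agent.Chev54.InvRankE6
import Cfsg.Agent.Chev54.InvRankE7
import Cfsg.Agent.Chev54.InvRankE8

/-!
The subgroup of rational points of prime index of a field is maximal in each of the seven types.
-/

set_option autoImplicit false
set_option maxRecDepth 100000

namespace Cfsg.Agent.Chev34

open Cfsg.Lie Cfsg.Agent.ChevCore Cfsg.Agent.Chev54

variable {D : ChevalleyDatum} {F : Type*} [Field F] [Fintype F] {φ : F →+* F}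
  {H : Subgroup (GL D.Idx F)}

/-- the statement for one type: every overgroup is the rational points or the whole group -/
def MaxProp (D : ChevalleyDatum) (φ : F →+* F) : Prop :=
  ∀ H : Subgroup (GL D.Idx F), Over D φ H → H = ratPts D φ ∨ H = D.group F

/-- two rational classes of involutions -/
def TwoInv (D : ChevalleyDatum) (φ : F →+* F) : Prop :=
  ∃ x ∈ ratPts D φ, ∃ t ∈ ratPts D φ, orderOf x = 2 ∧ orderOf t = 2 ∧
    ¬ ∃ g ∈ D.group F, g * x * g⁻¹ = t

/-- the combination of the unipotent climb with the two endgames -/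
theorem maxProp_of (hD : D ∈ [chevG2, chevB2, chevD4, chevF4, chevE6, chevE7, chevE8]) (p f : ℕ)
    [Fact p.Prime] [CharP F p] (hF : Fintype.card F = p ^ f) {good : ℤ → Bool}
    (hgood : ∀ z, good z = true → ((z : ℤ) : F) ≠ 0) {S T : List ℕ} {hi s : ℕ} {W : List (List ℕ)}
    {P : List ℕ} (hB : climbB D good S T hi = true)
    (huniq : ∀ r, r < D.nroots → ht D r = ht D hi → r = hi)
    (hT : ∀ H : Subgroup (GL D.Idx F), Over D φ H → ∀ r ∈ T, r < D.nroots → 1 ≤ ht D r →
      (∀ m', ht D r < m' → Clean φ H m') → ∀ v d, v ∈ H → Vec (ht D r) v d → φ (d r) = d r)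
    (hgen : genB D hi W = true)
    (hall : ∀ H : Subgroup (GL D.Idx F), Over D φ H → ∀ c : F, xg D F hi c ∈ H → φ c ≠ c →
      ∀ t : F, xg D F hi t ∈ H)
    (hodd : oddB D hi s P = true) (htwo : p = 2 → TwoInv D φ) : MaxProp D φ := by
  intro H hH
  have hU := uGood_of_mem hD
  have hG := hU.toCommGood.toGood
  by_cases hclean : Clean φ H 1
  · left
    have hR : RatU D φ H := ⟨hH.le, fun g hg => hH.rat g hg.1 hg.2, fun u hu huU => hclean u hu huU⟩
    by_cases hp : p = 2
    · obtain ⟨x, hx, t, ht, hx2, ht2, hne⟩ := htwo hp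
      exact hR.eq_two hD p f hF hp hx ht hx2 ht2 hne
    · exact hR.eq_odd hD p f hF hp hodd
  · right
    by_cases htop : Clean φ H (ht D hi)
    · exact absurd (hH.clean_one hU hgood hB htop (hT H hH)) hclean
    simp only [climbB, Bool.and_eq_true, decide_eq_true_eq, List.all_eq_true, List.mem_range,
      Bool.or_eq_true] at hB
    obtain ⟨⟨⟨hhi, hhi1⟩, -⟩, hR⟩ := hB
    simp only [Clean, not_forall] at htop
    obtain ⟨v, hv, hvm, hne⟩ := htop
    obtain ⟨d, hd⟩ := exists_vec hU hhi1 hvm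
    have hbot : XS D F (htGe D (ht D hi + 1)) = ⊥ := le_antisymm (XS_le fun r t hr hp => by
      have hp' : ht D hi + 1 ≤ ht D r := hp
      rcases hR r hr with (h | h) | h
      · omega
      · subst h; omega
      · have := h.1; omega) bot_le
    have he := hd.2
    rw [hbot, Subgroup.mem_bot, inv_mul_eq_one] at he
    have hd0 : d = Pi.single hi (d hi) := by
      funext r
      by_cases h : r = hi
      · subst h; simp
      · rw [Pi.single_eq_of_ne h]
        by_contra hne'
        obtain ⟨hr, hrm⟩ := hd.1 r hne'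
        exact h (huniq r hr hrm)
    rw [← he, hd0, hU.prodL_single posL_nodup ((mem_posL' hU hi).2 ⟨hhi, hhi1⟩)] at hv hne
    refine hH.eq_group hU hgen (hall H hH (d hi) hv fun e => hne ?_)
    rw [gmap_xg φ hU.toCommGood, e]

omit [Fintype F] in
theorem twoInv_sep [CharP F 2] (hD : D ∈ [chevG2, chevB2, chevD4, chevF4, chevE6, chevE7, chevE8])
    {P : List ℕ} {a b : ℕ} (h : sepB D P a b = true) : TwoInv D φ := by
  have hU := uGood_of_mem hD
  have hG := hU.toCommGood.toGood
  have hlt : a < D.nroots ∧ b < D.nroots := by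
    simp only [sepB, Bool.and_eq_true, decide_eq_true_eq] at h
    obtain ⟨⟨⟨⟨⟨⟨⟨ha, hb⟩, -⟩, -⟩, -⟩, -⟩, -⟩, -⟩ := h
    exact ⟨ha, hb⟩
  haveI : Fact (Nat.Prime 2) := ⟨Nat.prime_two⟩
  have hord : ∀ r, r < D.nroots → orderOf (xg D F r (1 : F)) = 2 := fun r hr => by
    refine orderOf_eq_prime (by rw [xg_pow hG, CharP.cast_eq_zero, zero_mul, hG.xg_zero]) fun e => ?_
    exact one_ne_zero (hG.xg_injective hr (e.trans (hG.xg_zero r).symm))
  have hmem : ∀ r, xg D F r (1 : F) ∈ ratPts D φ := fun r =>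
    (mem_ratPts φ).2 ⟨hG.xg_mem_group r 1, by rw [gmap_xg φ hU.toCommGood, map_one]⟩
  exact ⟨_, hmem a, _, hmem b, hord a hlt.1, hord b hlt.2, not_cj_root hU hD h⟩

omit [Fintype F] in
theorem twoInv_rank [CharP F 2] (hU : UGood D) {X Y : RankCert}
    (h : repsB D [X.L, Y.L] [X, Y] = true) (hne : X.P.length ≠ Y.P.length) : TwoInv D φ := by
  have hG := hU.toCommGood.toGood
  obtain ⟨hx, hx2, hxr⟩ := rep_facts (F := F) hU h (j := 0) (by simp)
  obtain ⟨hy, hy2, hyr⟩ := rep_facts (F := F) hU h (j := 1) (by simp)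
  have hfix : ∀ L : List ℕ, gmap D φ (w1 D F L) = w1 D F L := by
    intro L
    induction L with
    | nil => rw [w1_nil, map_one]
    | cons a L ih => rw [w1_cons, map_mul, ih, gmap_xg φ hU.toCommGood, map_one]
  refine ⟨_, (mem_ratPts φ).2 ⟨hx, hfix _⟩, _, (mem_ratPts φ).2 ⟨hy, hfix _⟩, hx2, hy2, ?_⟩
  rintro ⟨g, hg, e⟩
  have hc : Cj D F (w1 D F ([X.L, Y.L].getD 0 [])) (w1 D F ([X.L, Y.L].getD 1 [])) := ⟨g, hg, e⟩
  have := hc.rank_eq
  rw [hxr, hyr] at this
  simp at this
  exact hne this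

/-- a coefficient `±1` -/
def goodOne (z : ℤ) : Bool := decide (z.natAbs = 1)

/-- a coefficient `±1` or `±2` -/
def goodTwo (z : ℤ) : Bool := decide (z.natAbs = 1 ∨ z.natAbs = 2)

/-- a coefficient `±1` or `±3` -/
def goodThree (z : ℤ) : Bool := decide (z.natAbs = 1 ∨ z.natAbs = 3)

/-- a coefficient `±1`, `±2` or `±3` -/
def goodAny (z : ℤ) : Bool := decide (z.natAbs = 1 ∨ z.natAbs = 2 ∨ z.natAbs = 3)

omit [Fintype F] in
theorem cast_good (p : ℕ) [CharP F p] {z : ℤ} {n : ℕ} (hn : z.natAbs = n) (hp : ¬ p ∣ n) :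
    ((z : ℤ) : F) ≠ 0 := fun h => hp (hn ▸ Int.natCast_dvd.1 ((CharP.intCast_eq_zero_iff F p z).1 h))

/-- the simple roots -/
noncomputable def simplesL (D : ChevalleyDatum) : List ℕ := (List.range D.rank).map D.simple

omit [Fintype F] in
theorem hT_nil {H : Subgroup (GL D.Idx F)} :
    ∀ r ∈ ([] : List ℕ), r < D.nroots → 1 ≤ ht D r → (∀ m', ht D r < m' → Clean φ H m') →
      ∀ v (d : ℕ → F), v ∈ H → Vec (ht D r) v d → φ (d r) = d r :=
  fun r hr => absurd hr (List.not_mem_nil)

variable {p a r : ℕ} [Fact p.Prime] [CharP F p] (ha : 1 ≤ a) (hr : r.Prime)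
  (hφ : ∀ x, φ x = x ^ p ^ a) (hF : Fintype.card F = (p ^ a) ^ r)
include ha hr hφ hF

omit [CharP F p] in
theorem two_le_q : 2 ≤ p ^ a :=
  le_trans (Fact.out (p := p.Prime)).two_le (Nat.le_self_pow (by omega) p)

/-- simply laced types -/
theorem maxProp_laced (hD : D ∈ [chevG2, chevB2, chevD4, chevF4, chevE6, chevE7, chevE8]) {hi s : ℕ}
    {W : List (List ℕ)} {P wb wc : List ℕ} (hB : climbB D goodOne (simplesL D) [] hi = true)
    (huniq : ∀ r, r < D.nroots → ht D r = ht D hi → r = hi) (hgen : genB D hi W = true)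
    (hstep : stepB D hi wb wc = true) (hodd : oddB D hi s P = true)
    (htwo : ∀ [CharP F 2], TwoInv D φ) : MaxProp D φ := by
  have hU := uGood_of_mem hD
  refine maxProp_of hD p (a * r) (by rw [hF, pow_mul]) (good := goodOne) (fun z hz => ?_) hB huniq
    (fun H _ => hT_nil) hgen (fun H hH c hc hcφ => hH.top_all_step hU (two_le_q ha hr hφ hF) hr hφ hF hstep hc hcφ)
    hodd (fun hp => by subst hp; exact htwo)
  exact cast_good p (n := 1) (by simpa [goodOne] using hz) fun h =>
    (Fact.out (p := p.Prime)).ne_one (Nat.dvd_one.1 h)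

theorem maxProp_D4 : MaxProp chevD4 φ := by
  refine maxProp_laced (D := chevD4) ha hr hφ hF (by simp) (hi := 23) (s := 12) (W := [[1], [], [1], [1]])
    (P := List.range 24) (wb := [1, 3, 2, 0, 1]) (wc := [1])
    (by decide +kernel) (by decide +kernel) (by decide +kernel) (by decide +kernel) (by decide +kernel) ?_
  intro _
  refine twoInv_rank uGoodD4 (X := rkD4_0) (Y := rkD4_1) ?_ (by decide +kernel)
  simp only [repsB, List.all_cons, List.all_nil, rkD4_0_ok, rkD4_1_ok, Bool.true_and]
  decide +kernel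

theorem maxProp_E6 : MaxProp chevE6 φ := by
  refine maxProp_laced (D := chevE6) ha hr hφ hF (by simp) (hi := 71) (s := 36)
    (W := [[2, 3, 1], [], [3, 1], [1], [3, 1], [4, 3, 1]]) (P := List.range 72)
    (wb := [1, 3, 4, 5, 2, 3, 4, 0, 2, 3, 1]) (wc := [1])
    (by decide +kernel) (by decide +kernel) (by decide +kernel) (by decide +kernel) (by decide +kernel) ?_
  intro _
  refine twoInv_rank uGoodE6 (X := rkE6_0) (Y := rkE6_1) ?_ (by decide +kernel)
  simp only [repsB, List.all_cons, List.all_nil, rkE6_0_ok, rkE6_1_ok, Bool.true_and]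
  decide +kernel

theorem maxProp_E7 : MaxProp chevE7 φ := by
  refine maxProp_laced (D := chevE7) ha hr hφ hF (by simp) (hi := 125) (s := 63)
    (W := [[], [3, 2, 0], [0], [2, 0], [3, 2, 0], [4, 3, 2, 0], [5, 4, 3, 2, 0]]) (P := List.range 126)
    (wb := [0, 2, 3, 4, 5, 6, 1, 3, 4, 5, 2, 3, 4, 1, 3, 2, 0]) (wc := [0])
    (by decide +kernel) (by decide +kernel) (by decide +kernel) (by decide +kernel) (by decide +kernel) ?_
  intro _
  refine twoInv_rank uGoodE7 (X := rkE7_0) (Y := rkE7_1) ?_ (by decide +kernel)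
  simp only [repsB, List.all_cons, List.all_nil, rkE7_0_ok, rkE7_1_ok, Bool.true_and]
  decide +kernel

theorem maxProp_E8 : MaxProp chevE8 φ := by
  refine maxProp_laced (D := chevE8) ha hr hφ hF (by simp) (hi := 239) (s := 121)
    (W := [[2, 3, 4, 5, 6, 7], [3, 4, 5, 6, 7], [3, 4, 5, 6, 7], [4, 5, 6, 7], [5, 6, 7], [6, 7], [7], []])
    (P := List.range 240)
    (wb := [7, 6, 5, 4, 3, 2, 1, 3, 4, 5, 6, 0, 2, 3, 4, 5, 1, 3, 4, 2, 3, 0, 2, 1, 3, 4, 5, 6, 7])
    (wc := [7])
    (by decide +kernel) (by decide +kernel) (by decide +kernel) (by decide +kernel) (by decide +kernel) ?_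
  intro _
  refine twoInv_rank uGoodE8 (X := rkE8_0) (Y := rkE8_1) ?_ (by decide +kernel)
  simp only [repsB, List.all_cons, List.all_nil, rkE8_0_ok, rkE8_1_ok, Bool.true_and]
  decide +kernel

theorem maxProp_F4 : MaxProp chevF4 φ := by
  have hq := two_le_q ha hr hφ hF
  have hall : ∀ H : Subgroup (GL chevF4.Idx F), Over chevF4 φ H → ∀ c : F, xg chevF4 F 47 c ∈ H →
      φ c ≠ c → ∀ t : F, xg chevF4 F 47 t ∈ H := fun H hH c hc hcφ =>
    hH.top_all_step uGoodF4 hq hr hφ hF (wb := [3, 2, 1, 2, 0, 1, 2, 3]) (wc := [3])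
      (by decide +kernel) hc hcφ
  have hgen : genB chevF4 47 [[1, 2, 3], [2, 3], [3], []] = true := by decide +kernel
  have hodd : oddB chevF4 47 25 [0, 1, 2, 4, 5, 6, 15, 16, 17, 21, 22, 23, 24, 25, 26, 30, 31, 32,
      41, 42, 43, 45, 46, 47] = true := by decide +kernel
  have hp := (Fact.out (p := p.Prime))
  by_cases h2 : p = 2
  · subst h2
    have hB : climbB chevF4 goodOne (simplesL chevF4) [44] 47 = true := by decide +kernel
    have hg : ∀ z, goodOne z = true → ((z : ℤ) : F) ≠ 0 := fun z hz =>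
      cast_good 2 (n := 1) (by simpa [goodOne] using hz) (by decide)
    refine maxProp_of (by simp) 2 (a * r) (by rw [hF, pow_mul]) hg hB (by decide +kernel)
      (fun H hH r hr' _ _ hclean v d hv hd => ?_) hgen hall hodd fun _ => ?_
    · obtain rfl := List.mem_singleton.1 hr'
      obtain ⟨t, htH⟩ := hH.central_reduce uGoodF4 2 hg hB (by decide +kernel) (by decide +kernel)
        (by decide +kernel) (by decide +kernel) hclean hv hd
      exact special_F4 hH hclean htH
    · exact twoInv_sep (by simp) (P := [0, 1, 2, 4, 5, 6, 15, 16, 17, 21, 22, 23, 24, 25, 26, 30, 31,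
        32, 41, 42, 43, 45, 46, 47]) (a := 47) (b := 44) (by decide +kernel)
  · refine maxProp_of (by simp) p (a * r) (by rw [hF, pow_mul]) (good := goodTwo) (fun z hz => ?_)
      (S := simplesL chevF4) (T := []) (by decide +kernel) (by decide +kernel) (fun H _ => hT_nil) hgen hall hodd (fun h => absurd h h2)
    simp only [goodTwo, decide_eq_true_eq] at hz
    rcases hz with hz | hz
    · exact cast_good p hz fun h => hp.ne_one (Nat.dvd_one.1 h)
    · exact cast_good p hz fun h => h2 ((Nat.prime_dvd_prime_iff_eq hp Nat.prime_two).1 h)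

theorem maxProp_G2 : MaxProp chevG2 φ := by
  have hq := two_le_q ha hr hφ hF
  have hall : ∀ H : Subgroup (GL chevG2.Idx F), Over chevG2 φ H → ∀ c : F, xg chevG2 F 11 c ∈ H →
      φ c ≠ c → ∀ t : F, xg chevG2 F 11 t ∈ H := fun H hH c hc hcφ =>
    hH.top_all_step uGoodG2 hq hr hφ hF (wb := [1, 0, 1]) (wc := [1]) (by decide +kernel) hc hcφ
  have hgen : genB chevG2 11 [[1], []] = true := by decide +kernel
  have hodd : oddB chevG2 11 7 [0, 1, 5, 6, 10, 11] = true := by decide +kernel
  have hp := (Fact.out (p := p.Prime))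
  by_cases h2 : p = 2
  · subst h2
    refine maxProp_of (by simp) 2 (a * r) (by rw [hF, pow_mul]) (good := goodThree) (fun z hz => ?_)
      (S := [6, 7, 8, 9, 10, 11]) (T := []) (by decide +kernel) (by decide +kernel) (fun H _ => hT_nil)
      hgen hall hodd fun _ => twoInv_sep (by simp) (P := [0, 1, 5, 6, 10, 11]) (a := 11) (b := 9)
        (by decide +kernel)
    simp only [goodThree, decide_eq_true_eq] at hz
    rcases hz with hz | hz <;> exact cast_good 2 hz (by decide)
  by_cases h3 : p = 3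
  · subst h3
    have hB : climbB chevG2 goodTwo (simplesL chevG2) [9] 11 = true := by decide +kernel
    have hg : ∀ z, goodTwo z = true → ((z : ℤ) : F) ≠ 0 := fun z hz => by
      simp only [goodTwo, decide_eq_true_eq] at hz
      rcases hz with hz | hz <;> exact cast_good 3 hz (by decide)
    refine maxProp_of (by simp) 3 (a * r) (by rw [hF, pow_mul]) hg hB (by decide +kernel)
      (fun H hH r hr' _ _ hclean v d hv hd => ?_) hgen hall hodd fun h => absurd h h2
    obtain rfl := List.mem_singleton.1 hr'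
    obtain ⟨t, htH⟩ := hH.central_reduce uGoodG2 3 hg hB (by decide +kernel) (by decide +kernel)
      (by decide +kernel) (by decide +kernel) hclean hv hd
    exact special_G2 hH hclean htH
  · refine maxProp_of (by simp) p (a * r) (by rw [hF, pow_mul]) (good := goodAny) (fun z hz => ?_)
      (S := simplesL chevG2) (T := []) (by decide +kernel) (by decide +kernel) (fun H _ => hT_nil) hgen hall hodd (fun h => absurd h h2)
    simp only [goodAny, decide_eq_true_eq] at hz
    rcases hz with hz | hz | hz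
    · exact cast_good p hz fun h => hp.ne_one (Nat.dvd_one.1 h)
    · exact cast_good p hz fun h => h2 ((Nat.prime_dvd_prime_iff_eq hp Nat.prime_two).1 h)
    · exact cast_good p hz fun h => h3 ((Nat.prime_dvd_prime_iff_eq hp Nat.prime_three).1 h)

theorem maxProp_B2 : MaxProp chevB2 φ := by
  have hall : ∀ H : Subgroup (GL chevB2.Idx F), Over chevB2 φ H → ∀ c : F, xg chevB2 F 7 c ∈ H →
      φ c ≠ c → ∀ t : F, xg chevB2 F 7 t ∈ H := fun H hH c hc hcφ =>
    hH.b2_top_all p ha hr hφ hF hc hcφ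
  have hgen : genB chevB2 7 [[], [0]] = true := by decide +kernel
  have hodd : oddB chevB2 7 4 [0, 3, 4, 7] = true := by decide +kernel
  have hp := (Fact.out (p := p.Prime))
  by_cases h2 : p = 2
  · subst h2
    have hB : climbB chevB2 goodOne (simplesL chevB2) [6] 7 = true := by decide +kernel
    have hg : ∀ z, goodOne z = true → ((z : ℤ) : F) ≠ 0 := fun z hz =>
      cast_good 2 (n := 1) (by simpa [goodOne] using hz) (by decide)
    refine maxProp_of (by simp) 2 (a * r) (by rw [hF, pow_mul]) hg hB (by decide +kernel)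
      (fun H hH r hr' _ _ hclean v d hv hd => ?_) hgen hall hodd fun _ =>
        twoInv_sep (by simp) (P := [0, 3, 4, 7]) (a := 7) (b := 6) (by decide +kernel)
    obtain rfl := List.mem_singleton.1 hr'
    obtain ⟨t, htH⟩ := hH.central_reduce uGoodB2 2 hg hB (by decide +kernel) (by decide +kernel)
      (by decide +kernel) (by decide +kernel) hclean hv hd
    refine special_B2 hH (fun u hu => ?_) htH
    have h7 := hclean (ht chevB2 7) (by decide +kernel) _ hu
      (xg_mem_XS (by decide) (show ht chevB2 7 ≤ ht chevB2 7 from le_rfl) u)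
    rw [gmap_xg φ uGoodB2.toCommGood] at h7
    exact uGoodB2.toCommGood.toGood.xg_injective (by decide) h7
  · refine maxProp_of (by simp) p (a * r) (by rw [hF, pow_mul]) (good := goodTwo) (fun z hz => ?_)
      (S := simplesL chevB2) (T := []) (by decide +kernel) (by decide +kernel) (fun H _ => hT_nil) hgen hall hodd (fun h => absurd h h2)
    simp only [goodTwo, decide_eq_true_eq] at hz
    rcases hz with hz | hz
    · exact cast_good p hz fun h => hp.ne_one (Nat.dvd_one.1 h)
    · exact cast_good p hz fun h => h2 ((Nat.prime_dvd_prime_iff_eq hp Nat.prime_two).1 h)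

theorem maxProp_all (hD : D ∈ [chevG2, chevB2, chevD4, chevF4, chevE6, chevE7, chevE8]) :
    MaxProp D φ := by
  simp only [List.mem_cons, List.not_mem_nil, or_false] at hD
  rcases hD with rfl | rfl | rfl | rfl | rfl | rfl | rfl
  exacts [maxProp_G2 ha hr hφ hF, maxProp_B2 ha hr hφ hF, maxProp_D4 ha hr hφ hF,
    maxProp_F4 ha hr hφ hF, maxProp_E6 ha hr hφ hF, maxProp_E7 ha hr hφ hF, maxProp_E8 ha hr hφ hF]

end Cfsg.Agent.Chev34
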